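import Cfsg.Agent.Lib.Invol.Co1.Local.Checks

/-!
# Wrong parameters
-/

set_option autoImplicit false
set_option maxRecDepth 100000

namespace Cfsg.Agent.Invol.Co1.Local

theorem bad0 : badBlk 0 = true := by decide +kernel

theorem bad1 : badBlk 1 = true := by decide +kernel

theorem bad2 : badBlk 2 = true := by decide +kernel

theorem bad3 : badBlk 3 = true := by decide +kernel

theorem bad4 : badBlk 4 = true := by decide +kernel

theorem bad5 : badBlk 5 = true := by decide +kernel

theorem bad6 : badBlk 6 = true := by decide +kernel

theorem bad7 : badBlk 7 = true := by decide +kernel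

theorem bad_ok {p : ℕ} (hp : p < 4096) : badOk p = true := by
  have hc : ∀ c < 8, badBlk c = true := fun c hc => by
    interval_cases c
    · exact bad0
    · exact bad1
    · exact bad2
    · exact bad3
    · exact bad4
    · exact bad5
    · exact bad6
    · exact bad7
  have := List.all_eq_true.1 (hc (p / 512) (by omega)) (p % 512) (List.mem_range.2 (Nat.mod_lt _ (by norm_num)))
  rwa [Nat.div_add_mod] at this

end Cfsg.Agent.Invol.Co1.Local
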