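import Cfsg.Agent.Lib.Invol.Co1.Local.Maps
import Cfsg.Agent.Lib.Spor.Golay.Basic

/-!
# Finite checks on the coordinates of the local subgroup
-/

set_option autoImplicit false
set_option maxRecDepth 100000

namespace Cfsg.Agent.Invol.Co1.Local

open Cfsg.Agent.Classical.BinCoc Cfsg.Agent.Invol.Big Cfsg.Agent.Invol.Big.Code

/-- The map of a letter: `0` for the moving element, `u + 1` for the duals. -/
def fn (p o : ℕ) (a : ℕ) : ℕ := if o = 0 then linN (Xi p) 11 a else linN (Di p (o - 1)) 11 a

/-- The map of a word. -/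
def wmap (p : ℕ) (w : List ℕ) (a : ℕ) : ℕ := w.foldr (fn p) a

/-- The map of a combination of the duals. -/
def DwN (p : ℕ) : ℕ → ℕ → ℕ → ℕ
  | 0, _, a => a
  | k + 1, d, a => DwN p k d (if d.testBit k then fn p (k + 1) a else a)

/-- Whether an element is known to be conjugate to the centre. -/
def cls (p a : ℕ) : Option Bool :=
  if a < 32 then some true
  else (lns.find? fun e => e.1 == a >>> 5).map fun e => DwN p 4 e.2.2.2.1 a == a && DwN p 4 e.2.2.2.2.1 a == a

/-- The words used. -/
def swords : List (List ℕ) := [[], [0], [0, 1]]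

/-- The classes of octads modulo the all-one word. -/
def oct (j : ℕ) : Bool := Spor.Golay.pop (Spor.Golay.enc j) == 8 || Spor.Golay.pop (Spor.Golay.enc j) == 16

/-- Coordinates in the code. -/
def psi (l : List ℕ) (a : ℕ) : ℕ := linN (fun i => l.getD i 0) 11 a

/-- The check against the wrong parameters. -/
def badOk (p : ℕ) : Bool :=
  (psis.map Prod.fst).contains p ||
    wits.any fun e => cls p e.2 == some true && cls p (wmap p e.1 e.2) == some false

/-- The check of a remaining parameter. -/
def goodOk (e : ℕ × List ℕ × List ℕ) : Bool :=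
  (List.range 2048).all fun a => a == 0 || swords.any fun w => cls e.1 (wmap e.1 w a) == some (oct (psi e.2.1 a))

theorem lns_ok : (lns.all fun e => decide (e.1 < 64 ∧ e.2.1 < 256 ∧ e.2.2.1 < 256 ∧ e.2.2.2.1 < 16 ∧ e.2.2.2.2.1 < 16) &&
    Wok K8 e.2.2.2.2.2 && eqvL (wd K8 e.2.2.2.2.2 e.2.1, wd K8 e.2.2.2.2.2 e.2.2.1) (1, 2) &&
    (List.range 16).all (fun v => decide (wd K8 e.2.2.2.2.2.reverse v < 16) && !bq K8 e.2.1 v && !bq K8 e.2.2.1 v) &&
    ([16 * e.2.2.2.1, 16 * e.2.2.2.2.1].all fun v => !bq K8 e.2.1 v && !bq K8 e.2.2.1 v) &&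
    (List.range 256).all (fun v => bq K8 e.2.1 v || bq K8 e.2.2.1 v ||
      (sp [1, 2, 4, 8, 16 * e.2.2.2.1, 16 * e.2.2.2.2.1]).contains v) &&
    (List.range 32).all fun r => bt (MgN 11 (32 * e.1 + r)) == bt (lmap e.2.1 e.2.2.1)) = true := by
  simp only [wok_eq]
  decide +kernel

theorem first_ok : ((List.range 2048).all fun b => !(bt (MgN 11 b) == bt (lmap 1 2)) || b >>> 5 == 1) = true := by
  decide +kernel

theorem chain_ok : (chain.length = 4 ∧ ((List.range 4).all fun i => (chain.getD i []).all fun e =>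
    Wok K8 e.2 && (List.range i).all (fun j => wd K8 e.2 (2 ^ j) == 2 ^ j) && wd K8 e.2 (2 ^ i) == e.1 &&
      (List.range 16).all fun v => decide (wd K8 e.2.reverse v < 16 ∧ wd K8 e.2 v < 16)) = true ∧
    ((List.range 4).all fun i => ((chain.getD i []).map Prod.fst).Nodup ∧
      (chain.getD i []).length = [15, 14, 12, 8].getD i 0) = true ∧
    (List.range 16).all (fun v => decide (v < 2) || ((chain.getD 0 []).map Prod.fst).contains v) = true) := by
  simp only [wok_eq]
  decide +kernel

theorem reach_ok : (psis.all fun e => (List.range 32).all fun r => cls e.1 (32 + r) == some false ||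
    swords.any fun w => decide (wmap e.1 w (32 + r) < 32) && wmap e.1 w (32 + r) != 0) = true := by decide +kernel

theorem inv_ok : (psis.all fun e => (List.range 11).all fun i => decide (psi e.2.1 (2 ^ i) < 2048) &&
    decide (psi e.2.2 (2 ^ i) < 2048) && psi e.2.1 (psi e.2.2 (2 ^ i)) == 2 ^ i &&
    psi e.2.2 (psi e.2.1 (2 ^ i)) == 2 ^ i) = true := by decide +kernel

/-- A block of parameters. -/
def badBlk (c : ℕ) : Bool := (List.range 512).all fun i => badOk (512 * c + i)

/-- A block of coordinates. -/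
def goodBlk (j c : ℕ) : Bool :=
  (List.range 256).all fun i => let a := 256 * c + i; let e := psis.getD j (0, [], [])
    a == 0 || swords.any fun w => cls e.1 (wmap e.1 w a) == some (oct (psi e.2.1 a))

end Cfsg.Agent.Invol.Co1.Local
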