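import Cfsg.Agent.Lib.Invol.Co1.Data

/-!
# Tables for the local subgroup with quotient the Mathieu group of degree 24
-/

set_option autoImplicit false

namespace Cfsg.Agent.Invol.Co1.Local

/-- The lines of the singular subspace: coefficients, a basis, two duals, and a word to the first line. -/
def lns : List (ℕ × ℕ × ℕ × ℕ × ℕ × List ℕ) :=
  [(1, 1, 2, 4, 8, []),
    (2, 1, 4, 2, 8, [98, 100]),
    (3, 1, 6, 6, 8, [34, 38]),
    (4, 1, 8, 2, 4, [162, 168]),
    (5, 1, 10, 4, 10, [34, 42]),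
    (6, 1, 12, 2, 12, [98, 108]),
    (7, 1, 14, 6, 10, [34, 46]),
    (8, 2, 4, 1, 8, [113, 119, 34, 39]),
    (9, 2, 5, 5, 8, [49, 50, 17, 21]),
    (10, 3, 4, 3, 8, [98, 100, 17, 19]),
    (11, 3, 5, 7, 8, [34, 39, 17, 19]),
    (16, 2, 8, 1, 4, [177, 187, 34, 43]),
    (17, 2, 9, 4, 9, [49, 50, 17, 25]),
    (20, 3, 8, 3, 4, [162, 168, 17, 19]),
    (21, 3, 9, 4, 11, [34, 43, 17, 19]),
    (24, 2, 12, 1, 12, [113, 127, 34, 47]),
    (25, 2, 13, 5, 9, [49, 50, 17, 29]),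
    (30, 3, 12, 3, 12, [98, 108, 17, 19]),
    (31, 3, 13, 7, 11, [34, 47, 17, 19]),
    (32, 4, 8, 1, 2, [162, 168, 81, 84]),
    (34, 4, 9, 2, 9, [113, 116, 17, 31]),
    (36, 5, 8, 2, 5, [162, 168, 17, 21]),
    (38, 5, 9, 2, 13, [98, 109, 17, 21]),
    (40, 4, 10, 1, 10, [81, 84, 34, 42]),
    (42, 4, 11, 3, 9, [113, 116, 17, 29]),
    (45, 5, 10, 5, 10, [34, 42, 17, 21]),
    (47, 5, 11, 7, 10, [34, 47, 17, 21]),
    (48, 6, 8, 1, 6, [177, 187, 34, 47]),
    (51, 6, 9, 6, 9, [49, 54, 17, 29]),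
    (52, 7, 8, 3, 5, [162, 168, 17, 23]),
    (55, 7, 9, 6, 11, [34, 47, 17, 23]),
    (56, 6, 10, 1, 14, [81, 94, 34, 42]),
    (59, 6, 11, 7, 9, [49, 54, 17, 31]),
    (61, 7, 10, 5, 11, [34, 42, 17, 23]),
    (62, 7, 11, 3, 13, [98, 109, 17, 23])]

/-- Words fixing an initial segment of the basis of the subspace and moving the next member. -/
def chain : List (List (ℕ × List ℕ)) :=
  [[(1, []), (2, [49, 50]), (3, [17, 19]), (4, [81, 84]), (5, [17, 21]), (6, [49, 54]), (7, [17, 23]), (8, [145, 152]), (9, [17, 25]), (10, [49, 58]), (11, [17, 27]), (12, [81, 92]), (13, [17, 29]), (14, [49, 62]), (15, [17, 31])],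
    [(2, []), (3, [34, 35]), (4, [98, 100]), (5, [98, 101]), (6, [34, 38]), (7, [34, 39]), (8, [162, 168]), (9, [162, 169]), (10, [34, 42]), (11, [34, 43]), (12, [98, 108]), (13, [98, 109]), (14, [34, 46]), (15, [34, 47])],
    [(4, []), (5, [68, 69]), (6, [68, 70]), (7, [68, 71]), (8, [196, 200]), (9, [196, 201]), (10, [196, 202]), (11, [196, 203]), (12, [68, 76]), (13, [68, 77]), (14, [68, 78]), (15, [68, 79])],
    [(8, []), (9, [136, 137]), (10, [136, 138]), (11, [136, 139]), (12, [136, 140]), (13, [136, 141]), (14, [136, 142]), (15, [136, 143])]]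

/-- Meeting pairs. -/
def meets : List ((ℕ × ℕ) × (ℕ × ℕ) × List ℕ) :=
  [((1, 2), (1, 4), []),
    ((1, 2), (1, 8), [199, 203]),
    ((1, 2), (2, 4), [201, 202, 251, 248]),
    ((1, 2), (2, 8), [196, 200, 53, 54]),
    ((1, 4), (1, 8), [77, 71, 227, 229]),
    ((1, 4), (2, 4), [228, 226, 218, 223]),
    ((1, 4), (4, 8), [202, 197, 109, 107, 251, 254]),
    ((1, 8), (2, 8), [202, 197, 232, 226, 181, 188]),
    ((1, 8), (4, 8), [69, 76, 238, 228, 251, 242]),
    ((2, 4), (2, 8), [70, 79, 173, 168, 113, 114]),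
    ((2, 4), (4, 8), [200, 196, 42, 47, 114, 119]),
    ((2, 8), (4, 8), [152, 145]),
    ((1, 64), (1, 32), [78, 68, 46, 108]),
    ((1, 64), (2, 64), [71, 137, 108, 46, 244, 181]),
    ((2, 128), (2, 64), [137, 68, 168, 42, 178, 177]),
    ((2, 128), (4, 128), [25, 152]),
    ((1, 128), (1, 32), [68, 79, 47, 173]),
    ((1, 128), (4, 128), [78, 76, 172, 46, 218, 91]),
    ((1, 128), (1, 64), [68, 138, 42, 168]),
    ((1, 128), (2, 128), [202, 77, 108, 238, 124, 253])]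

/-- Skew pairs. -/
def skews : List ((ℕ × ℕ) × (ℕ × ℕ) × List ℕ) :=
  [((1, 2), (4, 8), [79, 69, 229, 239]),
    ((1, 4), (2, 8), [107, 109, 196, 200]),
    ((1, 8), (2, 4), [156, 149]),
    ((1, 128), (2, 64), [108, 42, 166, 46]),
    ((1, 64), (2, 128), [69, 78, 198, 143]),
    ((1, 32), (4, 128), [34, 42, 138, 163])]

/-- Pairs of lines with their commutator line. -/
def comms : List ((ℕ × ℕ) × (ℕ × ℕ) × (ℕ × ℕ) × List ℕ) :=
  [((1, 32), (2, 64), (1, 64), [68, 197, 197, 34]),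
    ((2, 64), (4, 128), (2, 128), [76, 203, 239, 172, 187, 184]),
    ((1, 64), (4, 128), (1, 128), [137, 142, 203, 79, 101, 39]),
    ((1, 32), (2, 128), (1, 128), [201, 196, 137, 34])]

/-- Further lines. -/
def xlns : List (ℕ × ℕ × List ℕ) :=
  [(1, 32, [34, 229]),
    (2, 64, [173, 239, 241, 242]),
    (4, 128, [100, 227, 127, 122])]

/-- Witnesses against the wrong parameters. -/
def wits : List (List ℕ × ℕ) :=
  [([0], 257),
    ([0], 513),
    ([0], 793),
    ([0], 1025),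
    ([0], 1301),
    ([0], 1549),
    ([0, 3, 0], 256),
    ([0, 3, 0], 1284),
    ([0, 4, 0], 1792)]

/-- The remaining parameters, with coordinates in the code and their inverses. -/
def psis : List (ℕ × List ℕ × List ℕ) :=
  [(63, [577, 406, 1152, 1328, 1420, 1536, 1632, 1608, 1456, 576, 1344], [513, 1786, 1464, 908, 1128, 844, 812, 264, 1568, 300, 268]),
    (111, [145, 1945, 1951, 1491, 1279, 16, 664, 912, 208, 1183, 1407], [645, 330, 332, 1652, 32, 404, 900, 676, 1716, 1200, 1139]),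
    (159, [577, 406, 1328, 1152, 1420, 1632, 1536, 1608, 1456, 1344, 576], [1025, 1782, 980, 1420, 612, 1324, 1356, 260, 1600, 332, 268]),
    (207, [1025, 1385, 188, 1715, 1139, 1064, 1352, 264, 176, 255, 64], [1217, 709, 359, 99, 599, 1155, 1024, 2004, 227, 972, 1216]),
    (311, [1025, 1385, 1715, 188, 1139, 1352, 1064, 264, 176, 64, 255], [673, 1193, 363, 99, 1083, 643, 512, 1976, 227, 1452, 672]),
    (359, [1297, 1945, 1503, 1523, 1983, 1536, 1816, 16, 495, 1183, 1088], [1669, 842, 1900, 852, 128, 1076, 432, 1735, 948, 1424, 1456]),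
    (407, [878, 870, 812, 352, 832, 1176, 1903, 1040, 943, 127, 1183], [882, 725, 1415, 3, 947, 1856, 720, 163, 1432, 1880, 819]),
    (455, [145, 870, 1715, 864, 1279, 1895, 128, 1903, 336, 640, 1183], [1161, 366, 356, 160, 1224, 1920, 912, 64, 1624, 576, 1195])]

end Cfsg.Agent.Invol.Co1.Local
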