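import Cfsg.Agent.Lib.Invol.Co1.Local.Pairs

/-!
# One of the two standard skew pairs commutes
-/

set_option autoImplicit false
set_option linter.unusedSectionVars false

namespace Cfsg.Agent.Invol.Co1.Local

open Cfsg.Agent.Classical.BinCoc Cfsg.Agent.Invol.Big Cfsg.Agent.Invol.Big.Code

theorem lav_lmap : bt (wd K8 lav) = bt (lmap 2 4) ∧ Wok K8 lav = true ∧ lmap 2 4 32 = 36 ∧ lmap 2 4 64 = 66 ∧
    lmap 2 4 96 = 102 ∧ Wok K8 [136, 136] = true := by
  simp only [wok_eq]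
  decide +kernel

theorem moved_small : ([0, 1].all fun j => decide ((moved (wd K8 (sigs.getD j []))).toFinset.card < 5)) = true := by
  decide +kernel

theorem tr_ok : (((List.range 256).all fun a => decide (tr K8 136 a < 256) && tr K8 136 (tr K8 136 a) == a &&
    K8.q (tr K8 136 a) == K8.q a && bq K8 2 (tr K8 136 a) == bq K8 2 a && bq K8 4 (tr K8 136 a) == bq K8 4 a &&
    tr K8 136 (tE 128 (tr K8 136 a)) == tE 8 a && tr K8 136 (lmap 2 4 (tr K8 136 a)) == lmap 2 4 a) &&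
    tr K8 136 1 == 1 && tr K8 136 0 == 0) = true := by decide +kernel

variable {G : Type*} [Group G] [Finite G] {z : G} {Q : Subgroup G} {cd : G → ℕ} {g : G}

/-- A standard line and two translations, moved at most by `z`. -/
theorem exists_triple (P : Pr z Q cd g) : ∃ s p q, ZT P.code 2 4 s ∧ InP P.code g p 8 ∧ InP P.code g q 128 ∧
    (s * p * s⁻¹ = p ∨ s * p * s⁻¹ = z * p) ∧ (s * q * s⁻¹ = q ∨ s * q * s⁻¹ = z * q) := by
  have h := P.code
  have hcl := c12_ok
  obtain ⟨s, g', hg', hgne', hcg', hsg', hsA, hs2, hsfix, -⟩ := P.exists_s (Or.inl rfl)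
  rw [hcl.1] at hcg'
  have hst : s * (g * z * g⁻¹) * s⁻¹ = g * z * g⁻¹ :=
    comm_left_conj (hsfix _ P.hg (by rw [P.hv]; decide +kernel) (by rw [P.hv]; decide +kernel))
  have hlav := lav_ok
  simp only [List.all_eq_true, Bool.and_eq_true, beq_iff_eq] at hlav
  have heps : ∀ {p : G} {b : ℕ}, InP P.code g p b → b ∈ [2, 4, 8, 128, 136] →
      s * p * s⁻¹ = p ∨ s * p * s⁻¹ = z * p := by
    intro p b hp hb
    obtain ⟨⟨hb2, -⟩, hcomm⟩ := hlav b hb
    have hsp : s * p * s⁻¹ ∈ Qc Q g := (h.extc g).norm s (mul_inv_eq_iff_eq_mul.1 hst) p hp.1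
    have hspz : s * p * s⁻¹ * z = z * (s * p * s⁻¹) := comm_mul (comm_mul hsA.1 hp.2.1) (comm_inv hsA.1)
    have hA : h.Acts (s * p * s⁻¹) (tE b) := Acts.conj hp.2.2.2 hsA fun a ha _ =>
      lin_ext (Lin.comp (lin_wd h hcl.2.2.1) (lin_tE h (rs_lt hp.2.2.1)) fun c hc => tE_lt (rs_lt hp.2.2.1) hc)
        (Lin.comp (lin_tE h (rs_lt hp.2.2.1)) (lin_wd h hcl.2.2.1) fun c hc => wok_lt hcl.2.2.1 hc) hcomm ha
    have hd : s * p * s⁻¹ * p⁻¹ ∈ Q := (h.mem_iff (comm_mul hspz (comm_inv hp.2.1))).2 fun a ha => by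
      have hb' : h.act p⁻¹ a < 256 := h.act_lt (comm_inv hp.2.1) a
      rw [h.act_mul hspz (comm_inv hp.2.1) ha, hA.2 _ hb', ← hp.2.2.2.2 _ hb', h.act_inv_right hp.2.1 ha]
    have hpt : p * (g' * z * g'⁻¹) = g' * z * g'⁻¹ * p :=
      P.comm_x hp hg' (by rw [hcg']; decide +kernel) (by rw [hcg', bq_comm]; exact hb2)
    have hd' : s * p * s⁻¹ * p⁻¹ ∈ Qc Q g' := by
      rw [show s * p * s⁻¹ * p⁻¹ = s * (p * s⁻¹ * p⁻¹) by group]
      exact mul_mem hsg' ((h.extc g').norm p hpt _ (inv_mem hsg'))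
    have h1 := h.dcases P.pd_ok P.hg P.hne hd (mul_mem hsp (inv_mem hp.1))
    have h2 := h.dcases P.pd_ok hg' hgne' hd hd'
    rw [P.hv] at h1; rw [hcg'] at h2
    have h0 : cd (s * p * s⁻¹ * p⁻¹) = 0 := by omega
    rcases (h.ker _ hd).1 h0 with e | e
    · left; exact mul_inv_eq_one.1 e
    · right; exact mul_inv_eq_iff_eq_mul.1 e
  obtain ⟨p, hp⟩ := P.exists_inP small_ok.2.2.1
  obtain ⟨q, hq⟩ := P.exists_inP small_ok.2.2.2.1
  exact ⟨s, p, q, ⟨hs2, ⟨hsA.1, fun a ha => (hsA.2 a ha).trans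
    (lin_ext (lin_wd h lav_lmap.2.1) (lin_lmap h (by norm_num) (by norm_num)) lav_lmap.1 ha)⟩, hsfix⟩, hp, hq,
    heps hp (by simp), heps hq (by simp)⟩

/-- An involution acting in rank four forces the sign. -/
theorem sig_sign (P : Pr z Q cd g) {u i : ℕ} (hui : (u, i) ∈ [(8, 2), (128, 3), (136, 4)]) {s pu : G} {eu : Bool}
    (hs : ZT P.code 2 4 s) (hpu : InP P.code g pu u) (hseu : s * pu * s⁻¹ = (if eu then z else 1) * pu)
    {y : G} (hyA : P.code.Acts y (wd K8 (sigs.getD i []))) (hy2 : y * y = 1) : eu = K8.q u := by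
  have h := P.code
  have hfo := four_ok
  simp only [List.all_eq_true, Bool.and_eq_true, beq_iff_eq, decide_eq_true_eq, List.mem_range] at hfo
  obtain ⟨⟨hsig, -⟩, hsol⟩ := hfo _ hui
  dsimp only at hsig hsol
  have hult := rs_lt hpu.2.2.1
  have hsw : Wok K8 (sigs.getD i []) = true := by
    have := rep_ok
    simp only [Bool.and_eq_true, List.all_eq_true] at this
    rw [List.getD_eq_getElem _ _ (by simp at hui; rcases hui with ⟨-, rfl⟩ | ⟨-, rfl⟩ | ⟨-, rfl⟩ <;> decide)]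
    exact this.2 _ (List.getElem_mem _)
  have hσ : ∀ a < 256, wd K8 (sigs.getD i []) a = wd K8 lav (tE u a) := fun a ha =>
    lin_ext (lin_wd h hsw) (Lin.comp (lin_wd h lav_lmap.2.1) (lin_tE h hult) fun c hc => tE_lt hult hc) hsig ha
  have hlavA : ∀ a < 256, lmap 2 4 a = wd K8 lav a := fun a ha =>
    (lin_ext (lin_wd h lav_lmap.2.1) (lin_lmap h (by norm_num) (by norm_num)) lav_lmap.1 ha).symm
  have hcA : h.Acts (s * pu) (wd K8 (sigs.getD i [])) := ⟨comm_mul hs.comm hpu.2.1, fun a ha => by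
    rw [h.act_mul hs.comm hpu.2.1 ha, hpu.2.2.2.2 a ha, hs.act.2 _ (tE_lt hult ha), hlavA _ (tE_lt hult ha)]
    exact (hσ a ha).symm⟩
  have hx : (s * pu)⁻¹ * y ∈ Q := (h.mem_iff (comm_mul (comm_inv hcA.1) hyA.1)).2 fun a ha => by
    rw [h.act_mul (comm_inv hcA.1) hyA.1 ha, hyA.2 a ha, ← hcA.2 a ha, h.act_inv_left hcA.1 ha]
  set x := (s * pu)⁻¹ * y
  have hyx : y = s * pu * x := (mul_inv_cancel_left _ y).symm
  rw [hyx] at hy2
  have hlt := h.lt x hx
  have hsi : s⁻¹ = s := inv_eq_of_mul_eq_one_right hs.sq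
  set ze := (if eu then z else 1) with hze
  have hzeQ : ze ∈ Q ∧ cd ze = 0 := by
    cases eu <;> simp [hze, h.ext.mem, h.cd_one, h.cd_z]
  have hc2 : s * pu * (s * pu) = ze * (pu * pu) := by
    calc s * pu * (s * pu) = s * pu * s⁻¹ * pu := by rw [hsi]; group
      _ = _ := by rw [hseu, mul_assoc]
  have hpp : pu * pu ∈ Q ∧ cd (pu * pu) = qn K8 u := by
    cases hq : K8.q u
    · rw [P.sing_sq hpu hq, qn, hq]; exact ⟨one_mem _, h.cd_one⟩
    · rw [P.nonsing_sq hpu hq, qn, hq]; exact ⟨P.hg, P.hv⟩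
  have hcode : wd K8 lav (tE u (cd x)) ^^^ cd x = qn K8 u := by
    have hcx := h.ext.norm _ hcA.1 x hx
    have hzm := mul_mem hzeQ.1 hpp.1
    have e : (s * pu * x * (s * pu)⁻¹) * (ze * (pu * pu)) * x = 1 := by
      rw [← hc2]; calc (s * pu * x * (s * pu)⁻¹) * (s * pu * (s * pu)) * x = s * pu * x * (s * pu * x) := by group
        _ = 1 := hy2
    have e' := congrArg cd e
    rw [h.mul _ (mul_mem hcx hzm) _ hx, h.mul _ hcx _ hzm, h.cd_one, h.mul _ hzeQ.1 _ hpp.1, hzeQ.2,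
      Nat.zero_xor, hpp.2, ← h.act_cd hcA.1 hx, hcA.2 _ hlt, hσ _ hlt] at e'
    have e'' := Nat.xor_eq_zero_iff.1 e'
    conv_lhs => arg 2; rw [← e'']
    rw [← Nat.xor_assoc, Nat.xor_self, Nat.zero_xor]
  have hs' := hsol (cd x) hlt
  simp only [Bool.or_eq_true, Bool.not_eq_true', beq_eq_false_iff_ne, Bool.and_eq_true, List.all_eq_true,
    beq_iff_eq, bne_iff_ne] at hs'
  obtain ⟨⟨⟨⟨⟨hb1, hb2⟩, hb4⟩, hbu⟩, hqx⟩, -⟩ := hs'.resolve_left (fun e => e hcode)
  have hxs : s * x = x * s := hs.fix x hx hb2 hb4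
  have e2 : s * pu * x * (s * pu * x) = ze * (pu * x * (pu * x)) := by
    calc s * pu * x * (s * pu * x) = s * pu * (x * s) * (pu * x) := by group
      _ = (s * pu * s) * (x * pu * x) := by rw [← hxs]; group
      _ = (s * pu * s⁻¹) * (x * pu * x) := by rw [hsi]
      _ = _ := by rw [hseu]; group
  rw [P.sq_px hpu hx hb1, hbu, qn, if_neg (by simp [hqx]), pow_zero, one_mul, hy2] at e2
  cases hq : K8.q u
  · rw [hq, if_neg (by simp), one_mul, P.sing_sq hpu hq, mul_one] at e2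
    cases eu
    · rfl
    · exact absurd e2.symm h.ne
  · rw [hq, if_pos rfl, P.nonsing_sq hpu hq, mul_assoc (g * z * g⁻¹) z, ← P.t_z, ← mul_assoc (g * z * g⁻¹),
      P.t_sq, one_mul] at e2
    cases eu
    · simp only [hze, Bool.false_eq_true, if_false, one_mul] at e2; exact absurd e2.symm h.ne
    · rfl

/-- The two signs are not both one. -/
theorem not_both (P : Pr z Q cd g)
    (hcard : Nat.card (Subgroup.centralizer ({z} : Set G)) = 42525 * (2 ^ 12 * Nat.card Q))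
    {s p q : G} (hs : ZT P.code 2 4 s) (hp : InP P.code g p 8) (hq : InP P.code g q 128)
    (ep : s * p * s⁻¹ = z * p) (eq : s * q * s⁻¹ = z * q) : False := by
  classical
  have h := P.code
  have hsi : s⁻¹ = s := inv_eq_of_mul_eq_one_right hs.sq
  have hst : s * (g * z * g⁻¹) * s⁻¹ = g * z * g⁻¹ :=
    comm_left_conj (hs.fix _ P.hg (by rw [P.hv]; decide +kernel) (by rw [P.hv]; decide +kernel))
  set w := g⁻¹ * s * g with hw
  have hwz : w * z = z * w := by
    calc w * z = g⁻¹ * (s * (g * z * g⁻¹) * s⁻¹) * s * g := by simp only [hw]; group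
      _ = g⁻¹ * (g * z * g⁻¹) * s * g := by rw [hst]
      _ = _ := by simp only [hw]; group
  have hw2 : w * w = 1 := by
    simp only [hw]
    rw [show g⁻¹ * s * g * (g⁻¹ * s * g) = g⁻¹ * (s * s) * g by group, hs.sq]; group
  -- five displacements
  have hmem : ∀ r, r ∈ Qc Q g → r * z = z * r →
      ∃ b < 256, cd (g⁻¹ * (s * r * s⁻¹ * r⁻¹) * g) = h.act w b ^^^ b ∧ g⁻¹ * (s * r * s⁻¹ * r⁻¹) * g ∈ Q := by
    intro r hr _
    set x := g⁻¹ * r * g with hx
    have hxQ : x ∈ Q := mem_Qc.1 hr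
    have e : g⁻¹ * (s * r * s⁻¹ * r⁻¹) * g = w * x * w⁻¹ * x⁻¹ := by simp only [hw, hx]; group
    have hm := h.ext.norm w hwz x hxQ
    refine ⟨cd x, h.lt x hxQ, ?_, by rw [e]; exact mul_mem hm (inv_mem hxQ)⟩
    rw [e, h.mul _ hm _ (inv_mem hxQ), h.cd_inv hxQ, h.act_cd hwz hxQ]
  obtain ⟨r32, hr32⟩ := P.exists_inP (show 32 ∈ rs by decide)
  obtain ⟨r64, hr64⟩ := P.exists_inP (show 64 ∈ rs by decide)
  have hd : ∀ {r : G} {v v' : ℕ}, InP P.code g r v → K8.q v = false → lmap 2 4 v = v' → v' ∈ rs →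
      InP P.code g (s * r * s⁻¹ * r⁻¹) (v' ^^^ v) := by
    intro r v v' hr hqv he hv'
    have e : P.code.act s v = v' := by rw [hs.act.2 v (rs_lt hr.2.2.1), he]
    have := P.inP_conj hr hs.comm hst (by rw [e]; exact hv')
    rw [e] at this
    rw [inv_eq_of_mul_eq_one_right (P.sing_sq hr hqv)]
    exact P.inP_mul this hr
  have d32 := hd hr32 (by decide +kernel) lav_lmap.2.2.1 (by decide)
  have d64 := hd hr64 (by decide +kernel) lav_lmap.2.2.2.1 (by decide)
  have d96 := hd (P.inP_mul hr32 hr64) (by decide +kernel) lav_lmap.2.2.2.2.1 (by decide)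
  have d0 : InP P.code g (s * p * s⁻¹ * p⁻¹) 0 := by
    rw [ep, mul_inv_cancel_right]
    exact ⟨h.symm P.big P.hg, rfl, by decide, rfl, fun a ha => by
      rw [(h.mem_iff rfl).1 h.ext.mem a ha, tE_zero]⟩
  have hfive : ∀ v ∈ [(0, false), (0, true), (4, false), (2, false), (6, false)], ∃ d b, InP P.code g d v.1 ∧
      b < 256 ∧ (if v.2 then d = z else (v.1 = 0 → d = 1)) ∧ g⁻¹ * d * g ∈ Q ∧ cd (g⁻¹ * d * g) = h.act w b ^^^ b := by
    intro v hv
    simp only [List.mem_cons, List.not_mem_nil, or_false] at hv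
    rcases hv with rfl | rfl | rfl | rfl | rfl
    · obtain ⟨b, hb, he, hm⟩ := hmem 1 (one_mem _) (by simp)
      rw [show s * 1 * s⁻¹ * 1⁻¹ = (1 : G) by group] at he hm
      exact ⟨1, b, P.inP_one, hb, by simp, hm, he⟩
    · obtain ⟨b, hb, he, hm⟩ := hmem p hp.1 hp.2.1
      refine ⟨_, b, d0, hb, ?_, hm, he⟩
      simp only [if_true]; rw [ep, mul_inv_cancel_right]
    · obtain ⟨b, hb, he, hm⟩ := hmem r32 hr32.1 hr32.2.1
      exact ⟨_, b, d32, hb, by simp, hm, he⟩
    · obtain ⟨b, hb, he, hm⟩ := hmem r64 hr64.1 hr64.2.1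
      exact ⟨_, b, d64, hb, by simp, hm, he⟩
    · obtain ⟨b, hb, he, hm⟩ := hmem _ (mul_mem hr32.1 hr64.1) (comm_mul hr32.2.1 hr64.2.1)
      exact ⟨_, b, d96, hb, by simp, hm, he⟩
  choose! dd bb hdd using hfive
  set L := [(0, false), (0, true), (4, false), (2, false), (6, false)] with hL
  have hinj : Set.InjOn (fun v => cd (g⁻¹ * dd v * g)) {v | v ∈ L} := by
    intro v hv v' hv' e
    obtain ⟨i1, -, t1, m1, -⟩ := hdd v hv
    obtain ⟨i2, -, t2, m2, -⟩ := hdd v' hv'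
    have hk : dd v' = dd v ∨ dd v' = dd v * (g * z * g⁻¹) := by
      rcases (h.cd_eq_iff m1 m2).1 e with e' | e'
      · left; exact mul_left_cancel (mul_right_cancel e')
      · right
        calc dd v' = g * (g⁻¹ * dd v' * g) * g⁻¹ := by group
          _ = _ := by rw [e']; group
    have htA : ∀ a < 256, h.act (g * z * g⁻¹) a = a := (h.mem_iff P.t_z).1 P.hg
    have h16 : (16 : ℕ) < 256 := by norm_num
    have e16 : tE v.1 16 = tE v'.1 16 := by
      rw [← i1.2.2.2.2 16 h16, ← i2.2.2.2.2 16 h16]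
      rcases hk with k | k <;> rw [k]
      rw [h.act_mul i1.2.1 P.t_z h16, htA 16 h16]
    have hv1 : v.1 = v'.1 := List.inj_on_of_nodup_map inj_ok.1 i1.2.2.1 i2.2.2.1 e16
    simp only [Set.mem_setOf_eq, hL, List.mem_cons, List.not_mem_nil, or_false] at hv hv'
    rcases hv with rfl | rfl | rfl | rfl | rfl <;> rcases hv' with rfl | rfl | rfl | rfl | rfl <;>
      first
      | rfl
      | exact absurd hv1 (by decide)
      | (exfalso
         simp only [if_true, Bool.false_eq_true, if_false, forall_const] at t1 t2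
         rw [t1, t2] at hk
         rcases hk with k | k
         all_goals first
           | exact h.ne k
           | exact h.ne k.symm
           | exact P.hne (k.trans (one_mul _)).symm
           | exact h.conj_ne_one g ((mul_eq_left.1 (k.trans rfl).symm))
           | exact P.hne ((inv_eq_of_mul_eq_one_right k.symm).symm.trans h.zinv))
  obtain ⟨c, hc, σ, hσ, hσA⟩ := classify h hcard hwz hw2 fun hQ => by
    obtain ⟨d, b, -, hb, hd', hm, he⟩ : ∃ d b, InP P.code g d 4 ∧ b < 256 ∧ (d = d) ∧ g⁻¹ * d * g ∈ Q ∧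
        cd (g⁻¹ * d * g) = h.act w b ^^^ b := by
      obtain ⟨i, b, -, m, e⟩ := hdd (4, false) (by simp [hL])
      exact ⟨_, _, i, b, rfl, m, e⟩
    obtain ⟨d', b', -, hb', hd'', hm', he'⟩ : ∃ d b, InP P.code g d 2 ∧ b < 256 ∧ (d = d) ∧ g⁻¹ * d * g ∈ Q ∧
        cd (g⁻¹ * d * g) = h.act w b ^^^ b := by
      obtain ⟨i, b, -, m, e⟩ := hdd (2, false) (by simp [hL])
      exact ⟨_, _, i, b, rfl, m, e⟩
    have := hinj (show (4, false) ∈ L by simp [hL]) (show (2, false) ∈ L by simp [hL]) (by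
      show cd _ = cd _
      rw [(hdd (4, false) (by simp [hL])).2.2.2.2, (hdd (2, false) (by simp [hL])).2.2.2.2,
        (h.mem_iff hwz).1 hQ _ (hdd (4, false) (by simp [hL])).2.1,
        (h.mem_iff hwz).1 hQ _ (hdd (2, false) (by simp [hL])).2.1, Nat.xor_self, Nat.xor_self])
    simp at this
  set w' := c * w * c⁻¹
  have hcount : 5 ≤ (moved (wd K8 σ)).toFinset.card := by
    have hci : Set.InjOn (fun v => h.act c (cd (g⁻¹ * dd v * g))) {v | v ∈ L} := fun v hv v' hv' e => hinj hv hv' (by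
      show cd _ = cd _
      rw [← h.act_inv_left hc (h.lt _ (hdd v hv).2.2.2.1)]
      rw [show h.act c (cd (g⁻¹ * dd v * g)) = h.act c (cd (g⁻¹ * dd v' * g)) from e,
        h.act_inv_left hc (h.lt _ (hdd v' hv').2.2.2.1)])
    have h5 : L.toFinset.card = 5 := by rw [hL]; decide
    rw [← h5]
    refine Finset.card_le_card_of_injOn _ (fun v hv => ?_) (by simpa using hci)
    simp only [Finset.mem_coe, List.mem_toFinset] at hv ⊢
    obtain ⟨-, hb, -, -, he⟩ := hdd v hv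
    simp only [moved, imL, List.mem_map, pts, List.mem_range]
    refine ⟨h.act c (bb v), h.act_lt hc _, ?_⟩
    rw [← hσA.2 _ (h.act_lt hc _), he, h.act_xor hc (h.act_lt hwz _) hb,
      h.act_mul (comm_mul hc hwz) (comm_inv hc) (h.act_lt hc _), h.act_inv_left hc hb, h.act_mul hc hwz hb]
  obtain ⟨j, hj, hjσ⟩ := List.getElem_of_mem hσ
  rw [sigs_ok.1] at hj
  rw [← hjσ, ← List.getD_eq_getElem _ []] at hcount hσA
  have hy2 : w' * w' = 1 := Pr.sq_conj hw2
  have hsm := moved_small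
  simp only [List.all_eq_true, decide_eq_true_eq] at hsm
  interval_cases j
  · have := hsm 0 (by simp); omega
  · have := hsm 1 (by simp); omega
  · exact absurd (sig_sign P (u := 8) (eu := true) (by simp) hs hp (by simpa using ep) hσA hy2) (by decide +kernel)
  · exact absurd (sig_sign P (u := 128) (eu := true) (by simp) hs hq (by simpa using eq) hσA hy2) (by decide +kernel)
  · refine absurd (sig_sign P (u := 136) (eu := false) (by simp) hs (P.inP_mul hp hq) ?_ hσA hy2) (by decide +kernel)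
    rw [← conj_mul, ep, eq, show z * p * (z * q) = z * (p * z) * q by group, hp.2.1]
    simp [← mul_assoc, h.ext.zz]

/-- Coordinates in which the first skew pair commutes. -/
theorem exists_fam (S : Std z Q cd)
    (hcard : Nat.card (Subgroup.centralizer ({z} : Set G)) = 42525 * (2 ^ 12 * Nat.card Q)) :
    ∃ cd' g, ∃ P : Pr z Q cd' g, Fam P := by
  obtain ⟨g, P⟩ := exists_pr S
  obtain ⟨s, p, q, hs, hp, hq, ep, eq⟩ := exists_triple P
  rcases ep with ep | ep
  · exact ⟨cd, g, P, s, p, hs, hp, mul_inv_eq_iff_eq_mul.1 ep⟩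
  rcases eq with eq | eq
  swap
  · exact (not_both P hcard hs hp hq ep eq).elim
  have h := P.code
  have ht := tr_ok
  simp only [Bool.and_eq_true, List.all_eq_true, List.mem_range, decide_eq_true_eq, beq_iff_eq] at ht
  obtain ⟨⟨hT, ht1⟩, ht0⟩ := ht
  have hlin : ∀ a < 256, ∀ b < 256, tr K8 136 (a ^^^ b) = tr K8 136 a ^^^ tr K8 136 b := by
    intro a ha b hb
    simp only [tr]
    rw [bq_addr h ha hb (by norm_num)]
    cases bq K8 136 a <;> cases bq K8 136 b <;> simp [Nat.xor_assoc, Nat.xor_comm, Nat.xor_left_comm]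
  have h' : Code K8 z Q (fun x => tr K8 136 (cd x)) := by
    refine ⟨h.ext, h.two, fun x hx => (hT _ (h.lt x hx)).1.1.1.1.1.1, fun a ha => ?_, fun x hx y hy => ?_,
      fun x hx => ?_, fun x hx => ?_, fun w hw => ?_⟩
    · obtain ⟨x, hx, e⟩ := h.surj (tr K8 136 a) (hT a ha).1.1.1.1.1.1
      exact ⟨x, hx, by rw [e]; exact (hT a ha).1.1.1.1.1.2⟩
    · show tr K8 136 (cd (x * y)) = _
      rw [h.mul x hx y hy, hlin _ (h.lt x hx) _ (h.lt y hy)]
    · rw [← h.ker x hx]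
      refine ⟨fun e => ?_, fun e => by show tr K8 136 (cd x) = 0; rw [e, ht0]⟩
      rw [← (hT _ (h.lt x hx)).1.1.1.1.1.2, e, ht0]
    · rw [h.sq x hx, qn, qn, (hT _ (h.lt x hx)).1.1.1.1.2]
    · have hw' : ∀ a < 256, wd K8 w a < 256 ∧ wd K8 w.reverse a < 256 ∧ wd K8 w.reverse (wd K8 w a) = a ∧
          wd K8 w (wd K8 w.reverse a) = a := fun a ha => by
        have hlt : ∀ x ∈ w.reverse, x < 256 := fun x hx => by
          simp only [Wok, Bool.and_eq_true, List.all_eq_true, decide_eq_true_eq] at hw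
          exact (hw.1.1 x (List.mem_reverse.1 hx)).2
        simp only [Wok, Bool.and_eq_true, List.all_eq_true, pts, List.mem_range, beq_iff_eq, decide_eq_true_eq] at hw
        exact ⟨(hw.2 a ha).2, wd_tr_lt hlt ha, (hw.2 a ha).1.1, (hw.2 a ha).1.2⟩
      have hwd : ∀ v a, wd K8 (136 :: v ++ [136]) a = tr K8 136 (wd K8 v (tr K8 136 a)) := fun v a => by
        simp [wd]
      have hW : Wok K8 (136 :: w ++ [136]) = true := by
        have hw0 := hw
        simp only [Wok, Bool.and_eq_true, List.all_eq_true, beq_iff_eq, decide_eq_true_eq, pts, List.mem_range] at hw0 ⊢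
        refine ⟨⟨fun x hx => ?_, by simp; omega⟩, fun a ha => ?_⟩
        · simp only [List.mem_cons, List.mem_append, List.not_mem_nil, or_false] at hx
          rcases hx with (rfl | hx) | rfl
          · exact ⟨by decide +kernel, by decide +kernel⟩
          · exact hw0.1.1 x hx
          · exact ⟨by decide +kernel, by decide +kernel⟩
        · have hta := (hT a ha).1.1.1.1.1.1
          obtain ⟨k1, k2, k3, k4⟩ := hw' _ hta
          rw [show List.reverse ((136 : ℕ) :: w ++ [136]) = 136 :: w.reverse ++ [136] by simp, hwd, hwd, hwd, hwd]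
          refine ⟨⟨?_, ?_⟩, (hT _ k1).1.1.1.1.1.1⟩
          · rw [(hT _ k1).1.1.1.1.1.2, k3, (hT a ha).1.1.1.1.1.2]
          · rw [(hT _ k2).1.1.1.1.1.2, k4, (hT a ha).1.1.1.1.1.2]
      obtain ⟨c, hc, he⟩ := h.lift _ hW
      refine ⟨c, hc, fun x hx => ?_⟩
      show tr K8 136 (cd (c * x * c⁻¹)) = _
      rw [he x hx, hwd]
      exact (hT _ (hw' _ (hT _ (h.lt x hx)).1.1.1.1.1.1).1).1.1.1.1.1.2
  have P' : Pr z Q (fun x => tr K8 136 (cd x)) g :=
    ⟨⟨h', P.big, P.pd_ok, P.moves⟩, P.hg, P.hne, by show tr K8 136 (cd _) = 1; rw [P.hv, ht1]⟩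
  have hact : ∀ c, c * z = z * c → ∀ a < 256, P'.code.act c a = tr K8 136 (h.act c (tr K8 136 a)) := by
    intro c hc a ha
    have hr := P'.code.rep_mem a
    conv_rhs => rw [← P'.code.cd_rep (show a < 2 ^ K8.n from ha)]
    show _ = tr K8 136 (h.act c (tr K8 136 (tr K8 136 (cd (P'.code.rep a)))))
    rw [(hT _ (h.lt _ hr)).1.1.1.1.1.2, h.act_cd hc hr]
    rfl
  refine ⟨_, g, P', s, q, ⟨hs.sq, ⟨hs.comm, fun a ha => ?_⟩, fun x hx k1 k2 => hs.fix x hx ?_ ?_⟩,
    ⟨hq.1, hq.2.1, by decide, hq.2.1, fun a ha => ?_⟩, mul_inv_eq_iff_eq_mul.1 eq⟩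
  · rw [hact s hs.comm a ha, hs.act.2 _ (hT a ha).1.1.1.1.1.1, (hT a ha).2]
  · rw [← (hT _ (h.lt x hx)).1.1.1.2]; exact k1
  · rw [← (hT _ (h.lt x hx)).1.1.2]; exact k2
  · rw [hact q hq.2.1 a ha, hq.2.2.2.2 _ (hT a ha).1.1.1.1.1.1, (hT a ha).1.2]

end Cfsg.Agent.Invol.Co1.Local
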