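import Cfsg.Agent.Lib.Invol.Co1.Local.Fam

/-!
# The elementary abelian subgroup of order `2 ^ 11`, in coordinates
-/

set_option autoImplicit false
set_option linter.unusedSectionVars false

namespace Cfsg.Agent.Invol.Co1.Local

open Cfsg.Agent.Classical.BinCoc Cfsg.Agent.Invol.Big Cfsg.Agent.Invol.Big.Code

section Words

variable {G : Type*} [Group G]

/-- The product of the members chosen by the bits. -/
def elN (f : ℕ → G) : ℕ → ℕ → G
  | 0, _ => 1
  | k + 1, n => elN f k n * if n.testBit k then f k else 1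

/-- The linear map given by the images of the bits. -/
def linN (img : ℕ → ℕ) : ℕ → ℕ → ℕ
  | 0, _ => 0
  | k + 1, n => linN img k n ^^^ if n.testBit k then img k else 0

variable {f : ℕ → G} {k : ℕ}

theorem elN_commute {x : G} (hx : ∀ i < k, Commute x (f i)) (n : ℕ) : Commute x (elN f k n) := by
  induction k with
  | zero => exact Commute.one_right _
  | succ k ih =>
    refine (ih fun i hi => hx i (by omega)).mul_right ?_
    split_ifs
    · exact hx k (by omega)
    · exact Commute.one_right _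

theorem elN_mem {S : Subgroup G} {n : ℕ} (hS : ∀ i < k, n.testBit i = true → f i ∈ S) : elN f k n ∈ S := by
  induction k with
  | zero => exact one_mem _
  | succ k ih =>
    refine mul_mem (ih fun i hi => hS i (by omega)) ?_
    split_ifs with hb
    · exact hS k (by omega) hb
    · exact one_mem _

theorem elN_xor (hc : ∀ i < k, ∀ j < k, Commute (f i) (f j)) (hs : ∀ i < k, f i * f i = 1) (a b : ℕ) :
    elN f k (a ^^^ b) = elN f k a * elN f k b := by
  induction k with
  | zero => simp [elN]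
  | succ k ih =>
    have hk : Commute (f k) (elN f k b) := elN_commute (fun i hi => hc k (by omega) i (by omega)) b
    simp only [elN, Nat.testBit_xor]
    rw [ih (fun i hi j hj => hc i (by omega) j (by omega)) fun i hi => hs i (by omega)]
    cases a.testBit k <;> cases b.testBit k <;> simp [mul_assoc]
    · exact hk.eq.symm
    · rw [← mul_assoc (f k) (elN f k b), hk.eq, mul_assoc, hs k (by omega), mul_one]

theorem elN_zero : elN f k 0 = 1 := by
  induction k with
  | zero => rfl
  | succ k ih => simp [elN, ih]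

theorem elN_pow {j : ℕ} (h : j < k) : elN f k (2 ^ j) = f j := by
  induction k with
  | zero => omega
  | succ k ih =>
    rcases Nat.lt_succ_iff_lt_or_eq.1 h with h' | rfl
    · simp [elN, ih h', Nat.ne_of_lt h']
    · have : elN f j (2 ^ j) = 1 := by
        have : ∀ m ≤ j, elN f m (2 ^ j) = 1 := by
          intro m hm
          induction m with
          | zero => rfl
          | succ m ihm =>
            simp [elN, ihm (by omega), show j ≠ m by omega]
        exact this j le_rfl
      simp [elN, this]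

theorem elN_conj {m : ℕ} (hc : ∀ i < m, ∀ j < m, Commute (f i) (f j)) (hs : ∀ i < m, f i * f i = 1)
    {x : G} {img : ℕ → ℕ} (hx : ∀ i < k, x * f i * x⁻¹ = elN f m (img i)) (n : ℕ) :
    x * elN f k n * x⁻¹ = elN f m (linN img k n) := by
  induction k with
  | zero => simp [elN, linN, elN_zero]
  | succ k ih =>
    simp only [elN, linN]
    rw [elN_xor hc hs, ← conj_mul, ih fun i hi => hx i (by omega)]
    split_ifs
    · rw [hx k (by omega)]
    · simp [elN_zero]

theorem linN_xor (img : ℕ → ℕ) (a b : ℕ) : linN img k (a ^^^ b) = linN img k a ^^^ linN img k b := by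
  induction k with
  | zero => simp [linN]
  | succ k ih =>
    simp only [linN, ih, Nat.testBit_xor]
    cases a.testBit k <;> cases b.testBit k <;>
      simp [Nat.xor_assoc, Nat.xor_comm, Nat.xor_left_comm]

theorem linN_lt {img : ℕ → ℕ} {m : ℕ} (hi : ∀ i < k, img i < 2 ^ m) (n : ℕ) : linN img k n < 2 ^ m := by
  induction k with
  | zero => exact Nat.two_pow_pos m
  | succ k ih =>
    refine Nat.xor_lt_two_pow (ih fun i h => hi i (by omega)) ?_
    split_ifs
    · exact hi k (by omega)
    · exact Nat.two_pow_pos m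

end Words

/-- The six basic lines. -/
def six (i : ℕ) : ℕ × ℕ := [(1, 2), (1, 4), (1, 8), (2, 4), (2, 8), (4, 8)].getD i (1, 2)

/-- The action of a generator. -/
def gmap (i v : ℕ) : ℕ := if i < 5 then v else lmap (six (i - 5)).1 (six (i - 5)).2 v

/-- The action of an element. -/
def MgN : ℕ → ℕ → ℕ → ℕ
  | 0, _, v => v
  | k + 1, n, v => MgN k n (if n.testBit k then gmap k v else v)

/-- Candidates for the maps fixing the singular subspace. -/
def gensE : List (ℕ × List ℕ) :=
  [1, 2, 4, 8].map (fun b => (b, [b])) ++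
    [16, 32, 64, 128].map fun b => (b, (pts K8).filter fun x =>
      K8.q x == K8.q b && [1, 2, 4, 8].all fun u => bq K8 u x == bq K8 u b)

theorem low_ok : (List.range 16).all (fun v => decide (v < 256) && !K8.q v &&
    (List.range 16).all fun x => !bq K8 v x) = true := by decide +kernel

theorem six_ok : (List.range 6).all (fun i => decide ((six i).1 < 256 ∧ (six i).2 < 256) && chkLine (six i) &&
    (List.range 16).all (fun x => !bq K8 (six i).1 x && !bq K8 (six i).2 x) &&
    (List.range 6).all fun j => decide (j ≤ i) || (meets.any fun e => decide (e.1 = six i ∧ e.2.1 = six j)) ||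
      skews.any fun e => decide (e.1 = six i ∧ e.2.1 = six j)) = true := by decide +kernel

theorem gensE_ok : (covers K8 (gensE.map Prod.fst) && (gensE.map Prod.fst).all (fun b => decide (b < 256)) &&
    (maps K8 gensE).all fun T => (List.range 64).any fun c =>
      (List.range 8).map (fun i => T.getD (2 ^ i) 0) == bt (MgN 11 (32 * c))) = true := by decide +kernel

theorem faith_ok : ((List.range 2048).all fun n => !(bt (MgN 11 n) == bt id) || decide (n < 32)) = true := by
  decide +kernel

theorem mask_ok : ((List.range 2048).all fun n => !(n &&& 1820 == n) || decide (n < 32) ||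
    rs.all fun w => bt (MgN 11 n) != bt (tE w)) = true := by decide +kernel

theorem code_ok : ((List.range 32).all fun n => (List.range 5).all fun k =>
    ((n % 2 ^ k) >>> 1) ^^^ (if n.testBit k then (if k == 0 then 0 else 2 ^ (k - 1)) else 0) ==
      (n % 2 ^ (k + 1)) >>> 1) = true := by decide +kernel

variable {G : Type*} [Group G] [Finite G] {z : G} {Q : Subgroup G} {cd : G → ℕ} {g : G}

/-- The members of `Q` with codes in the singular subspace. -/
def Esub (P : Pr z Q cd g) : Subgroup G where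
  carrier := {x | x ∈ Q ∧ cd x < 16}
  mul_mem' := fun {a b} ha hb => ⟨mul_mem ha.1 hb.1, by
    rw [P.code.mul a ha.1 b hb.1]; exact Nat.xor_lt_two_pow (n := 4) ha.2 hb.2⟩
  one_mem' := ⟨one_mem _, by rw [P.code.cd_one]; norm_num⟩
  inv_mem' := fun {a} ha => ⟨inv_mem ha.1, by rw [P.code.cd_inv ha.1]; exact ha.2⟩

theorem mem_Esub (P : Pr z Q cd g) {x : G} : x ∈ Esub P ↔ x ∈ Q ∧ cd x < 16 := Iff.rfl

/-- Its centralizer. -/
def Asub (P : Pr z Q cd g) : Subgroup G := Subgroup.centralizer (Esub P : Set G)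

/-- Generators of the subgroup. -/
structure Frame (P : Pr z Q cd g) (f : ℕ → G) : Prop where
  g0 : f 0 = z
  g1 : f 1 = g * z * g⁻¹
  ge : ∀ i, 2 ≤ i → i < 5 → f i ∈ Q ∧ cd (f i) = 2 ^ (i - 1)
  gp : ∀ i < 3, InP P.code g (f (5 + i)) (2 ^ (i + 1))
  gs : ∀ i, 3 ≤ i → i < 6 → ZT P.code (six i).1 (six i).2 (f (5 + i))

namespace Frame

variable {P : Pr z Q cd g} {f : ℕ → G}

theorem low (F : Frame P f) {i : ℕ} (hi : i < 5) : f i ∈ Q ∧ cd (f i) = if i = 0 then 0 else 2 ^ (i - 1) := by
  rcases Nat.lt_or_ge i 2 with h2 | h2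
  · interval_cases i
    · rw [F.g0]; exact ⟨P.code.ext.mem, P.code.cd_z⟩
    · rw [F.g1]; exact ⟨P.hg, P.hv⟩
  · rw [if_neg (by omega)]; exact F.ge i h2 hi

theorem low_mem (F : Frame P f) {i : ℕ} (hi : i < 5) : f i ∈ Esub P := by
  obtain ⟨h1, h2⟩ := F.low hi
  exact ⟨h1, by rw [h2]; interval_cases i <;> norm_num⟩

theorem line (F : Frame P f) {i : ℕ} (hi : i < 6) : ZT P.code (six i).1 (six i).2 (f (5 + i)) := by
  rcases Nat.lt_or_ge i 3 with h3 | h3
  · have := zt_of_inP P (F.gp i h3) (by interval_cases i <;> decide +kernel)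
    interval_cases i <;> exact this
  · exact F.gs i h3 hi

theorem line_fix (F : Frame P f) {i : ℕ} (hi : i < 6) {x : G} (hx : x ∈ Esub P) : Commute (f (5 + i)) x := by
  have h := six_ok
  simp only [List.all_eq_true, Bool.and_eq_true, List.mem_range, Bool.not_eq_true'] at h
  obtain ⟨k1, k2⟩ := (h i hi).1.2 _ hx.2
  exact (F.line hi).fix x hx.1 k1 k2

theorem comm (F : Frame P f) (hF : Fam P) : ∀ i < 11, ∀ j < 11, Commute (f i) (f j) := by
  have h := six_ok
  simp only [List.all_eq_true, Bool.and_eq_true, List.mem_range, Bool.or_eq_true, List.any_eq_true,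
    decide_eq_true_eq] at h
  have hlow := low_ok
  simp only [List.all_eq_true, Bool.and_eq_true, List.mem_range, Bool.not_eq_true', decide_eq_true_eq] at hlow
  have key : ∀ a < 6, ∀ b < 6, a < b → Commute (f (5 + a)) (f (5 + b)) := by
    intro a ha b hb hab
    rcases (h a ha).2 b hb with (e | ⟨⟨p, p', k⟩, he, e1, e2⟩) | ⟨⟨p, p', k⟩, he, e1, e2⟩
    · omega
    · simp only at e1 e2; subst e1 e2; exact meet P he (F.line ha) (F.line hb)
    · simp only at e1 e2; subst e1 e2; exact skew P hF he (F.line ha) (F.line hb)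
  intro i hi j hj
  rcases Nat.lt_or_ge i 5 with h5 | h5 <;> rcases Nat.lt_or_ge j 5 with h5' | h5'
  · obtain ⟨hQ, hc⟩ := F.low_mem h5
    obtain ⟨hQ', hc'⟩ := F.low_mem h5'
    exact (P.code.commute_iff hQ hQ').2 ((hlow _ hc).2 _ hc')
  · obtain ⟨b, rfl⟩ : ∃ b, j = 5 + b := ⟨j - 5, by omega⟩
    exact (F.line_fix (by omega) (F.low_mem h5)).symm
  · obtain ⟨a, rfl⟩ : ∃ a, i = 5 + a := ⟨i - 5, by omega⟩
    exact F.line_fix (by omega) (F.low_mem h5')
  · obtain ⟨a, rfl⟩ : ∃ a, i = 5 + a := ⟨i - 5, by omega⟩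
    obtain ⟨b, rfl⟩ : ∃ b, j = 5 + b := ⟨j - 5, by omega⟩
    rcases lt_trichotomy a b with e | rfl | e
    · exact key a (by omega) b (by omega) e
    · rfl
    · exact (key b (by omega) a (by omega) e).symm

theorem sq (F : Frame P f) : ∀ i < 11, f i * f i = 1 := by
  intro i hi
  rcases Nat.lt_or_ge i 5 with h5 | h5
  · obtain ⟨hQ, hc⟩ := F.low_mem h5
    have hlow := low_ok
    simp only [List.all_eq_true, Bool.and_eq_true, List.mem_range, Bool.not_eq_true', decide_eq_true_eq] at hlow
    exact (P.code.sq_iff hQ).2 (hlow _ hc).1.2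
  · obtain ⟨a, rfl⟩ : ∃ a, i = 5 + a := ⟨i - 5, by omega⟩
    exact (F.line (by omega)).sq

theorem xor (F : Frame P f) (hF : Fam P) (a b : ℕ) : elN f 11 (a ^^^ b) = elN f 11 a * elN f 11 b :=
  elN_xor (F.comm hF) F.sq a b

theorem gen_mem (F : Frame P f) {i : ℕ} (hi : i < 11) : f i ∈ Asub P := by
  refine Subgroup.mem_centralizer_iff.2 fun x hx => ?_
  rcases Nat.lt_or_ge i 5 with h5 | h5
  · have hlow := low_ok
    simp only [List.all_eq_true, Bool.and_eq_true, List.mem_range, Bool.not_eq_true', decide_eq_true_eq] at hlow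
    obtain ⟨hQ, hc⟩ := F.low_mem h5
    exact (P.code.commute_iff hx.1 hQ).2 ((hlow _ hx.2).2 _ hc)
  · obtain ⟨a, rfl⟩ : ∃ a, i = 5 + a := ⟨i - 5, by omega⟩
    exact (F.line_fix (by omega) hx).symm.eq

theorem el_mem (F : Frame P f) (n : ℕ) : elN f 11 n ∈ Asub P := elN_mem fun i hi _ => F.gen_mem hi

theorem el_act (F : Frame P f) (n : ℕ) : P.code.Acts (elN f 11 n) (MgN 11 n) := by
  have key : ∀ k, k ≤ 11 → P.code.Acts (elN f k n) (MgN k n) := by
    intro k
    induction k with
    | zero => exact fun _ => ⟨by simp [elN], fun a ha => by simp only [elN, MgN]; exact P.code.act_one ha⟩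
    | succ k ih =>
      intro hk
      obtain ⟨h1, h2⟩ := ih (by omega)
      cases hb : n.testBit k
      · exact ⟨by simpa [elN, hb] using h1, fun a ha => by simpa [elN, MgN, hb] using h2 a ha⟩
      · have hgk : f k * z = z * f k ∧ ∀ a < 256, P.code.act (f k) a = gmap k a := by
          rcases Nat.lt_or_ge k 5 with h5 | h5
          · have hQ := (F.low h5).1
            have hz := P.code.ext.central _ hQ
            exact ⟨hz, fun a ha => by rw [gmap, if_pos h5]; exact (P.code.mem_iff hz).1 hQ a ha⟩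
          · obtain ⟨i, rfl⟩ : ∃ i, k = 5 + i := ⟨k - 5, by omega⟩
            refine ⟨(F.line (i := i) (by omega)).comm, fun a ha => ?_⟩
            rw [gmap, if_neg (by omega), show 5 + i - 5 = i by omega]
            exact (F.line (i := i) (by omega)).act.2 a ha
        refine ⟨by simpa [elN, hb] using comm_mul h1 hgk.1, fun a ha => ?_⟩
        simp only [elN, MgN, hb, if_true]
        rw [P.code.act_mul h1 hgk.1 ha, h2 _ (P.code.act_lt hgk.1 a), hgk.2 a ha]
  exact key 11 le_rfl

theorem el_low (F : Frame P f) {n : ℕ} (hn : n < 32) : elN f 11 n ∈ Q ∧ cd (elN f 11 n) = n >>> 1 := by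
  have key : ∀ k, k ≤ 5 → elN f k n ∈ Q ∧ cd (elN f k n) = (n % 2 ^ k) >>> 1 := by
    intro k
    induction k with
    | zero => exact fun _ => ⟨one_mem _, by simp [elN, P.code.cd_one, Nat.mod_one]⟩
    | succ k ih =>
      intro hk
      obtain ⟨h1, h2⟩ := ih (by omega)
      obtain ⟨g1, g2⟩ := F.low (i := k) (by omega)
      have hc := code_ok
      simp only [List.all_eq_true, List.mem_range, beq_iff_eq] at hc
      have e := hc n hn k (by omega)
      refine ⟨mul_mem h1 (by split_ifs <;> [exact g1; exact one_mem _]), ?_⟩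
      simp only [elN]
      rw [P.code.mul _ h1 _ (by split_ifs <;> [exact g1; exact one_mem _]), h2, ← e]
      congr 1
      cases n.testBit k
      · simp [P.code.cd_one]
      · simp [g2]
  have e11 : ∀ k, 5 ≤ k → elN f k n = elN f 5 n := by
    intro k hk
    induction k, hk using Nat.le_induction with
    | base => rfl
    | succ k hk ih =>
      have : n.testBit k = false :=
        Nat.testBit_lt_two_pow (hn.trans_le (Nat.pow_le_pow_right (by norm_num) hk : (2 : ℕ) ^ 5 ≤ 2 ^ k))
      simp [elN, this, ih]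
  rw [e11 11 (by norm_num)]
  obtain ⟨h1, h2⟩ := key 5 le_rfl
  exact ⟨h1, by rwa [show 2 ^ 5 = 32 from rfl, Nat.mod_eq_of_lt hn] at h2⟩

theorem inj (F : Frame P f) (hF : Fam P) {a b : ℕ} (ha : a < 2048) (hb : b < 2048)
    (e : elN f 11 a = elN f 11 b) : a = b := by
  have hab : a ^^^ b < 2048 := Nat.xor_lt_two_pow (n := 11) ha hb
  have h1 : elN f 11 (a ^^^ b) = 1 := by rw [F.xor hF, e, ← F.xor hF, Nat.xor_self, elN_zero]
  set n := a ^^^ b with hn
  have hbt : bt (MgN 11 n) = bt id := List.map_congr_left fun i hi => by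
    have h256 : 2 ^ i < 256 :=
      lt_of_lt_of_eq (Nat.pow_lt_pow_right (by norm_num) (List.mem_range.1 hi)) (by norm_num)
    rw [← (F.el_act n).2 _ h256, h1, P.code.act_one (show 2 ^ i < 2 ^ K8.n from h256)]; rfl
  have hfa := faith_ok
  simp only [List.all_eq_true, List.mem_range, Bool.or_eq_true, Bool.not_eq_true', beq_eq_false_iff_ne,
    decide_eq_true_eq] at hfa
  have hlt := (hfa n hab).resolve_left fun e => e hbt
  have hc := (F.el_low hlt).2
  rw [h1, P.code.cd_one, Nat.shiftRight_eq_div_pow] at hc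
  have : n = 0 ∨ n = 1 := by omega
  rcases this with e0 | e0
  · exact Nat.xor_eq_zero_iff.1 e0
  · exfalso
    rw [e0] at h1
    have := elN_pow (f := f) (k := 11) (j := 0) (by norm_num)
    rw [pow_zero, h1, F.g0] at this
    exact P.code.ne this.symm

theorem surj (F : Frame P f) (hF : Fam P) {x : G} (hx : x ∈ Asub P) : ∃ n < 2048, elN f 11 n = x := by
  have h := P.code
  have hcen := Subgroup.mem_centralizer_iff.1 hx
  have hxz : x * z = z * x := (hcen z ⟨h.ext.mem, by rw [h.cd_z]; norm_num⟩).symm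
  have hfix : ∀ v < 16, h.act x v = v := by
    intro v hv
    have hv' : v < 2 ^ K8.n := by rw [K8_n]; omega
    have := hcen (h.rep v) ⟨h.rep_mem v, by rw [h.cd_rep hv']; exact hv⟩
    show cd (x * h.rep v * x⁻¹) = v
    rw [← this, mul_inv_cancel_right, h.cd_rep hv']
  have hok := gensE_ok
  simp only [Bool.and_eq_true, List.all_eq_true, List.any_eq_true, decide_eq_true_eq, List.mem_range,
    beq_iff_eq] at hok
  obtain ⟨⟨hcov, hlt⟩, hmap⟩ := hok
  have hlow4 : ∀ b ∈ [1, 2, 4, 8], b < 16 ∧ b < 256 := by decide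
  obtain ⟨c, hc, hce⟩ := hmap _ (mem_maps K8 gensE (h.act x) (fun a b => h.act_xor hxz) (fun a => h.act_q hxz) hcov
    (fun p hp => hlt p.1 (List.mem_map.2 ⟨p, hp, rfl⟩)) (fun p hp => by
      have hp1 : p.1 < 256 := hlt p.1 (List.mem_map.2 ⟨p, hp, rfl⟩)
      simp only [gensE, List.mem_append, List.mem_map] at hp
      rcases hp with ⟨b, hb, rfl⟩ | ⟨b, hb, rfl⟩
      · rw [List.mem_singleton]; exact hfix b (hlow4 b hb).1
      · simp only [List.mem_filter, pts, List.mem_range, Bool.and_eq_true, beq_iff_eq, List.all_eq_true]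
        refine ⟨h.act_lt hxz b, h.act_q hxz hp1, fun u hu => ?_⟩
        conv_lhs => arg 2; rw [← hfix u (hlow4 u hu).1]
        exact h.bq_act hxz (hlow4 u hu).2 hp1))
  have hA : ∀ v < 256, h.act x v = h.act (elN f 11 (32 * c)) v := by
    intro v hv
    refine lin_ext (fun a ha b hb => h.act_xor hxz ha hb)
      (fun a ha b hb => h.act_xor (F.el_act _).1 ha hb) ?_ hv
    refine List.map_congr_left fun i hi => ?_
    have h256 : 2 ^ i < 256 :=
      lt_of_lt_of_eq (Nat.pow_lt_pow_right (by norm_num) (List.mem_range.1 hi)) (by norm_num)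
    rw [(F.el_act _).2 _ h256, ← tab_getD K8 (f := h.act x) h256]
    exact List.map_inj_left.1 hce i hi
  set e := elN f 11 (32 * c)
  have hd : e⁻¹ * x ∈ Q := (h.mem_iff (comm_mul (comm_inv (F.el_act _).1) hxz)).2 fun v hv => by
    rw [h.act_mul (comm_inv (F.el_act _).1) hxz hv, hA v hv, h.act_inv_left (F.el_act _).1 hv]
  have hdA : e⁻¹ * x ∈ Asub P := mul_mem (inv_mem (F.el_mem _)) hx
  have hperp : ∀ v < 16, bq K8 v (cd (e⁻¹ * x)) = false := by
    intro v hv
    have hv' : v < 2 ^ K8.n := by rw [K8_n]; omega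
    have := (h.commute_iff (h.rep_mem v) hd).1
      (Subgroup.mem_centralizer_iff.1 hdA _ ⟨h.rep_mem v, by rw [h.cd_rep hv']; exact hv⟩)
    rwa [h.cd_rep hv'] at this
  have hmax : ∀ a < 256, (∀ v ∈ List.range 16, bq K8 v a = false) → a < 16 := by decide +kernel
  have hcd : cd (e⁻¹ * x) < 16 := hmax _ (h.lt _ hd) fun v hv => hperp v (List.mem_range.1 hv)
  set m := cd (e⁻¹ * x) with hm
  have hm2 : 2 * m < 32 := by omega
  obtain ⟨h1, h2⟩ := F.el_low hm2
  have h2' : cd (elN f 11 (2 * m)) = m := by rw [h2, Nat.shiftRight_eq_div_pow]; omega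
  have hn : ∀ r < 32, (32 * c) ^^^ r < 2048 := fun r hr =>
    Nat.xor_lt_two_pow (n := 11) (by omega) (by omega)
  rcases (h.cd_eq_iff h1 hd).1 h2' with e' | e'
  · exact ⟨_, hn _ hm2, by rw [F.xor hF, ← e', mul_inv_cancel_left]⟩
  · refine ⟨_, hn ((2 * m) ^^^ 1) (Nat.xor_lt_two_pow (n := 5) hm2 (by norm_num)), ?_⟩
    have h0 : elN f 11 1 = z := by
      have := elN_pow (f := f) (k := 11) (j := 0) (by norm_num)
      rwa [pow_zero, F.g0] at this
    rw [F.xor hF, F.xor hF, h0, ← e', mul_inv_cancel_left]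

theorem card (F : Frame P f) (hF : Fam P) : Nat.card (Asub P) = 2 ^ 11 := by
  have : Nat.card (Fin 2048) = Nat.card (Asub P) :=
    Nat.card_eq_of_bijective (fun n => (⟨elN f 11 n.1, F.el_mem _⟩ : Asub P))
      ⟨fun a b e => Fin.ext (F.inj hF a.2 b.2 (congrArg Subtype.val e)), fun x => by
        obtain ⟨n, hn, e⟩ := F.surj hF x.2
        exact ⟨⟨n, hn⟩, Subtype.ext e⟩⟩
  rw [← this, Nat.card_fin]; norm_num

theorem comm_A (F : Frame P f) (hF : Fam P) {x y : G} (hx : x ∈ Asub P) (hy : y ∈ Asub P) : x * y = y * x := by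
  obtain ⟨a, -, rfl⟩ := F.surj hF hx
  obtain ⟨b, -, rfl⟩ := F.surj hF hy
  rw [← F.xor hF, ← F.xor hF, Nat.xor_comm]

theorem el_Qc (F : Frame P f) (hF : Fam P) {n : ℕ} (hn : n < 2048) (hm : elN f 11 n ∈ Qc Q g) : n &&& 1820 = 0 := by
  have h := P.code
  set a := n &&& 1820 with ha
  have hrest : elN f 11 (n &&& 227) ∈ Qc Q g := by
    refine elN_mem fun i hi hb => ?_
    rw [Nat.testBit_and, Bool.and_eq_true] at hb
    have : i = 0 ∨ i = 1 ∨ 5 ≤ i ∧ i < 8 := by
      have h2 := hb.2
      interval_cases i <;> simp_all +decide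
    rcases this with rfl | rfl | ⟨h5, h8⟩
    · rw [F.g0]; exact h.symm P.big P.hg
    · rw [F.g1]; exact P.t_mem
    · obtain ⟨j, rfl⟩ : ∃ j, i = 5 + j := ⟨i - 5, by omega⟩
      exact (F.gp j (by omega)).1
  have hsplit : ∀ m < 2048, (m &&& 1820) ^^^ (m &&& 227) = m ∧ m &&& 1820 < 2048 ∧
      (m &&& 1820) &&& 1820 = m &&& 1820 ∧ (m &&& 1820 < 4 → m &&& 1820 = 0) := by decide +kernel
  obtain ⟨hs, ha11, hidem, hsmall⟩ := hsplit n hn
  have haQ : elN f 11 a ∈ Qc Q g := by
    have := mul_mem hm (inv_mem hrest)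
    nth_rw 1 [← hs] at this
    rwa [F.xor hF, mul_inv_cancel_right] at this
  obtain ⟨w, hw⟩ := P.exists_w haQ (F.el_act a).1
  have hk := mask_ok
  simp only [List.all_eq_true, List.mem_range, Bool.or_eq_true, Bool.not_eq_true', beq_eq_false_iff_ne,
    decide_eq_true_eq, bne_iff_ne] at hk
  rcases hk a ha11 with (e | e) | e
  · exact absurd hidem e
  · obtain ⟨h1, h2⟩ := F.el_low e
    have hd := h.dcases P.pd_ok P.hg P.hne h1 haQ
    rw [h2, P.hv, Nat.shiftRight_eq_div_pow] at hd
    exact hsmall (show n &&& 1820 < 4 by rw [← ha]; omega)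
  · refine absurd ?_ (e w hw.2.2.1)
    refine List.map_congr_left fun i hi => ?_
    have h256 : 2 ^ i < 256 :=
      lt_of_lt_of_eq (Nat.pow_lt_pow_right (by norm_num) (List.mem_range.1 hi)) (by norm_num)
    rw [← (F.el_act a).2 _ h256, hw.2.2.2.2 _ h256]

end Frame

end Cfsg.Agent.Invol.Co1.Local
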