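import Cfsg.Agent.Lib.Invol.Co1.Local.Checks

/-!
# Coordinates for the remaining parameters
-/

set_option autoImplicit false
set_option maxRecDepth 100000

namespace Cfsg.Agent.Invol.Co1.Local

theorem good2_0 : goodBlk 2 0 = true := by decide +kernel

theorem good2_1 : goodBlk 2 1 = true := by decide +kernel

theorem good2_2 : goodBlk 2 2 = true := by decide +kernel

theorem good2_3 : goodBlk 2 3 = true := by decide +kernel

theorem good2_4 : goodBlk 2 4 = true := by decide +kernel

theorem good2_5 : goodBlk 2 5 = true := by decide +kernel

theorem good2_6 : goodBlk 2 6 = true := by decide +kernel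

theorem good2_7 : goodBlk 2 7 = true := by decide +kernel

theorem good2 : ∀ c < 8, goodBlk 2 c = true := fun c hc => by
  interval_cases c
  · exact good2_0
  · exact good2_1
  · exact good2_2
  · exact good2_3
  · exact good2_4
  · exact good2_5
  · exact good2_6
  · exact good2_7

theorem good3_0 : goodBlk 3 0 = true := by decide +kernel

theorem good3_1 : goodBlk 3 1 = true := by decide +kernel

theorem good3_2 : goodBlk 3 2 = true := by decide +kernel

theorem good3_3 : goodBlk 3 3 = true := by decide +kernel

theorem good3_4 : goodBlk 3 4 = true := by decide +kernel

theorem good3_5 : goodBlk 3 5 = true := by decide +kernel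

theorem good3_6 : goodBlk 3 6 = true := by decide +kernel

theorem good3_7 : goodBlk 3 7 = true := by decide +kernel

theorem good3 : ∀ c < 8, goodBlk 3 c = true := fun c hc => by
  interval_cases c
  · exact good3_0
  · exact good3_1
  · exact good3_2
  · exact good3_3
  · exact good3_4
  · exact good3_5
  · exact good3_6
  · exact good3_7

end Cfsg.Agent.Invol.Co1.Local
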