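import Cfsg.Agent.Lib.Invol.Co1.Local.Checks

/-!
# Coordinates for the remaining parameters
-/

set_option autoImplicit false
set_option maxRecDepth 100000

namespace Cfsg.Agent.Invol.Co1.Local

theorem good4_0 : goodBlk 4 0 = true := by decide +kernel

theorem good4_1 : goodBlk 4 1 = true := by decide +kernel

theorem good4_2 : goodBlk 4 2 = true := by decide +kernel

theorem good4_3 : goodBlk 4 3 = true := by decide +kernel

theorem good4_4 : goodBlk 4 4 = true := by decide +kernel

theorem good4_5 : goodBlk 4 5 = true := by decide +kernel

theorem good4_6 : goodBlk 4 6 = true := by decide +kernel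

theorem good4_7 : goodBlk 4 7 = true := by decide +kernel

theorem good4 : ∀ c < 8, goodBlk 4 c = true := fun c hc => by
  interval_cases c
  · exact good4_0
  · exact good4_1
  · exact good4_2
  · exact good4_3
  · exact good4_4
  · exact good4_5
  · exact good4_6
  · exact good4_7

theorem good5_0 : goodBlk 5 0 = true := by decide +kernel

theorem good5_1 : goodBlk 5 1 = true := by decide +kernel

theorem good5_2 : goodBlk 5 2 = true := by decide +kernel

theorem good5_3 : goodBlk 5 3 = true := by decide +kernel

theorem good5_4 : goodBlk 5 4 = true := by decide +kernel

theorem good5_5 : goodBlk 5 5 = true := by decide +kernel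

theorem good5_6 : goodBlk 5 6 = true := by decide +kernel

theorem good5_7 : goodBlk 5 7 = true := by decide +kernel

theorem good5 : ∀ c < 8, goodBlk 5 c = true := fun c hc => by
  interval_cases c
  · exact good5_0
  · exact good5_1
  · exact good5_2
  · exact good5_3
  · exact good5_4
  · exact good5_5
  · exact good5_6
  · exact good5_7

end Cfsg.Agent.Invol.Co1.Local
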