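import Cfsg.Agent.Lib.Invol.Co1.Local.Checks

/-!
# Coordinates for the remaining parameters
-/

set_option autoImplicit false
set_option maxRecDepth 100000

namespace Cfsg.Agent.Invol.Co1.Local

theorem good6_0 : goodBlk 6 0 = true := by decide +kernel

theorem good6_1 : goodBlk 6 1 = true := by decide +kernel

theorem good6_2 : goodBlk 6 2 = true := by decide +kernel

theorem good6_3 : goodBlk 6 3 = true := by decide +kernel

theorem good6_4 : goodBlk 6 4 = true := by decide +kernel

theorem good6_5 : goodBlk 6 5 = true := by decide +kernel

theorem good6_6 : goodBlk 6 6 = true := by decide +kernel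

theorem good6_7 : goodBlk 6 7 = true := by decide +kernel

theorem good6 : ∀ c < 8, goodBlk 6 c = true := fun c hc => by
  interval_cases c
  · exact good6_0
  · exact good6_1
  · exact good6_2
  · exact good6_3
  · exact good6_4
  · exact good6_5
  · exact good6_6
  · exact good6_7

theorem good7_0 : goodBlk 7 0 = true := by decide +kernel

theorem good7_1 : goodBlk 7 1 = true := by decide +kernel

theorem good7_2 : goodBlk 7 2 = true := by decide +kernel

theorem good7_3 : goodBlk 7 3 = true := by decide +kernel

theorem good7_4 : goodBlk 7 4 = true := by decide +kernel

theorem good7_5 : goodBlk 7 5 = true := by decide +kernel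

theorem good7_6 : goodBlk 7 6 = true := by decide +kernel

theorem good7_7 : goodBlk 7 7 = true := by decide +kernel

theorem good7 : ∀ c < 8, goodBlk 7 c = true := fun c hc => by
  interval_cases c
  · exact good7_0
  · exact good7_1
  · exact good7_2
  · exact good7_3
  · exact good7_4
  · exact good7_5
  · exact good7_6
  · exact good7_7

end Cfsg.Agent.Invol.Co1.Local
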