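import Cfsg.Agent.Lib.Invol.Co1.Local.GoodPar0
import Cfsg.Agent.Lib.Invol.Co1.Local.GoodPar1
import Cfsg.Agent.Lib.Invol.Co1.Local.GoodPar2
import Cfsg.Agent.Lib.Invol.Co1.Local.GoodPar3

/-!
# Coordinates
-/

set_option autoImplicit false
set_option maxRecDepth 100000

namespace Cfsg.Agent.Invol.Co1.Local

theorem good_ok {e : ℕ × List ℕ × List ℕ} (he : e ∈ psis) {a : ℕ} (ha : a < 2048) (h0 : a ≠ 0) :
    ∃ w ∈ swords, cls e.1 (wmap e.1 w a) = some (oct (psi e.2.1 a)) := by
  obtain ⟨j, hj, rfl⟩ := List.getElem_of_mem he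
  have hlen : psis.length = 8 := rfl
  rw [hlen] at hj
  rw [← List.getD_eq_getElem _ (0, [], [])]
  have hc : ∀ c < 8, goodBlk j c = true := by
    interval_cases j
    · exact good0
    · exact good1
    · exact good2
    · exact good3
    · exact good4
    · exact good5
    · exact good6
    · exact good7
  have := List.all_eq_true.1 (hc (a / 256) (by omega)) (a % 256) (List.mem_range.2 (Nat.mod_lt _ (by norm_num)))
  simp only [Nat.div_add_mod, Bool.or_eq_true, beq_iff_eq, List.any_eq_true] at this
  exact this.resolve_left h0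

end Cfsg.Agent.Invol.Co1.Local
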