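import Cfsg.Agent.Lib.Invol.Co1.Local.Checks

/-!
# Coordinates for the remaining parameters
-/

set_option autoImplicit false
set_option maxRecDepth 100000

namespace Cfsg.Agent.Invol.Co1.Local

theorem good0_0 : goodBlk 0 0 = true := by decide +kernel

theorem good0_1 : goodBlk 0 1 = true := by decide +kernel

theorem good0_2 : goodBlk 0 2 = true := by decide +kernel

theorem good0_3 : goodBlk 0 3 = true := by decide +kernel

theorem good0_4 : goodBlk 0 4 = true := by decide +kernel

theorem good0_5 : goodBlk 0 5 = true := by decide +kernel

theorem good0_6 : goodBlk 0 6 = true := by decide +kernel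

theorem good0_7 : goodBlk 0 7 = true := by decide +kernel

theorem good0 : ∀ c < 8, goodBlk 0 c = true := fun c hc => by
  interval_cases c
  · exact good0_0
  · exact good0_1
  · exact good0_2
  · exact good0_3
  · exact good0_4
  · exact good0_5
  · exact good0_6
  · exact good0_7

theorem good1_0 : goodBlk 1 0 = true := by decide +kernel

theorem good1_1 : goodBlk 1 1 = true := by decide +kernel

theorem good1_2 : goodBlk 1 2 = true := by decide +kernel

theorem good1_3 : goodBlk 1 3 = true := by decide +kernel

theorem good1_4 : goodBlk 1 4 = true := by decide +kernel

theorem good1_5 : goodBlk 1 5 = true := by decide +kernel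

theorem good1_6 : goodBlk 1 6 = true := by decide +kernel

theorem good1_7 : goodBlk 1 7 = true := by decide +kernel

theorem good1 : ∀ c < 8, goodBlk 1 c = true := fun c hc => by
  interval_cases c
  · exact good1_0
  · exact good1_1
  · exact good1_2
  · exact good1_3
  · exact good1_4
  · exact good1_5
  · exact good1_6
  · exact good1_7

end Cfsg.Agent.Invol.Co1.Local
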