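import Cfsg.Agent.Lib.Invol.Co1.Sep
import Cfsg.Agent.Lib.Invol.Co1.Local.Data

/-!
# Involutions attached to singular lines
-/

set_option autoImplicit false
set_option linter.unusedSectionVars false

namespace Cfsg.Agent.Invol.Co1.Local

open Cfsg.Agent.Classical.BinCoc Cfsg.Agent.Invol.Big Cfsg.Agent.Invol.Big.Code

/-- The action attached to the line of `u` and `w`. -/
def lmap (u w a : ℕ) : ℕ := a ^^^ (if bq K8 a u then w else 0) ^^^ (if bq K8 a w then u else 0)

/-- Two bases give the same line. -/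
def eqvL (p p' : ℕ × ℕ) : Bool :=
  decide (p.1 < 256 ∧ p.2 < 256 ∧ p'.1 < 256 ∧ p'.2 < 256) && bt (lmap p.1 p.2) == bt (lmap p'.1 p'.2) &&
    (List.range 256).all fun v => (!bq K8 p.1 v && !bq K8 p.2 v) == (!bq K8 p'.1 v && !bq K8 p'.2 v)

/-- A singular line, spanned by its perpendicular's perpendicular. -/
def chkLine (p : ℕ × ℕ) : Bool :=
  decide (p.1 < 256 ∧ p.2 < 256) && !K8.q p.1 && !K8.q p.2 && !bq K8 p.1 p.2 &&
    (List.range 256).all fun v => [0, p.1, p.2, p.1 ^^^ p.2].contains v ||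
      (List.range 256).any fun x => !bq K8 p.1 x && !bq K8 p.2 x && bq K8 v x

variable {G : Type*} [Group G] [Finite G] {z : G} {Q : Subgroup G} {cd : G → ℕ}

/-- An involution acting on the line of `u` and `w`, centralizing what is orthogonal to it. -/
structure ZT (h : Code K8 z Q cd) (u w : ℕ) (a : G) : Prop where
  sq : a * a = 1
  act : h.Acts a (lmap u w)
  fix : ∀ x ∈ Q, bq K8 u (cd x) = false → bq K8 w (cd x) = false → a * x = x * a

theorem lmap_lt {u w a : ℕ} (hu : u < 256) (hw : w < 256) (ha : a < 256) : lmap u w a < 256 := by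
  unfold lmap
  refine xor_lt (xor_lt ha ?_) ?_ <;> split_ifs <;> first | assumption | norm_num

theorem lin_lmap (h : Code K8 z Q cd) {u w : ℕ} (hu : u < 256) (hw : w < 256) : Lin (lmap u w) := by
  intro a ha b hb
  simp only [lmap]
  rw [bq_add h ha hb hu, bq_add h ha hb hw]
  cases bq K8 a u <;> cases bq K8 b u <;> cases bq K8 a w <;> cases bq K8 b w <;>
    simp [Nat.xor_assoc, Nat.xor_comm, Nat.xor_left_comm]

theorem lmap_one (w a : ℕ) (hw : K8.q w = false) : lmap 1 w a = tE w a := by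
  simp [lmap, tE, hw]

theorem ZT.comm {h : Code K8 z Q cd} {u w : ℕ} {a : G} (ha : ZT h u w a) : a * z = z * a := ha.act.1

theorem ZT.congr {h : Code K8 z Q cd} {p p' : ℕ × ℕ} {a : G} (ha : ZT h p.1 p.2 a) (hc : eqvL p p' = true) :
    ZT h p'.1 p'.2 a := by
  simp only [eqvL, Bool.and_eq_true, decide_eq_true_eq, List.all_eq_true, List.mem_range, beq_iff_eq] at hc
  obtain ⟨⟨⟨h1, h2, h3, h4⟩, hb⟩, hf⟩ := hc
  refine ⟨ha.sq, ⟨ha.comm, fun v hv => (ha.act.2 v hv).trans (lin_ext (lin_lmap h h1 h2) (lin_lmap h h3 h4) hb hv)⟩,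
    fun x hx k1 k2 => ha.fix x hx ?_ ?_⟩ <;>
  · have e := hf _ (h.lt x hx)
    rw [k1, k2] at e
    revert e
    cases bq K8 p.1 (cd x) <;> cases bq K8 p.2 (cd x) <;> simp

theorem ZT.conj {h : Code K8 z Q cd} {u w : ℕ} {a c : G} (ha : ZT h u w a) (hc : c * z = z * c)
    (hu : u < 256) (hw : w < 256) : ZT h (h.act c u) (h.act c w) (c * a * c⁻¹) := by
  refine ⟨Pr.sq_conj ha.sq, Acts.conj ha.act ⟨hc, fun _ _ => rfl⟩ fun v hv _ => ?_, fun x hx k1 k2 => ?_⟩
  · show h.act c (lmap u w v) = lmap _ _ (h.act c v)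
    have e0 : h.act c 0 = 0 := by
      have := h.act_xor hc (Nat.two_pow_pos K8.n) (Nat.two_pow_pos K8.n)
      simpa using this
    simp only [lmap]
    rw [h.bq_act hc hv hu, h.bq_act hc hv hw, h.act_xor hc (xor_lt hv (by split_ifs <;> first | assumption | norm_num))
      (by rw [K8_n]; split_ifs <;> first | assumption | norm_num), h.act_xor hc hv
      (by rw [K8_n]; split_ifs <;> first | assumption | norm_num)]
    cases bq K8 v u <;> cases bq K8 v w <;> simp [e0]
  · have hxQ : c⁻¹ * x * c ∈ Q := by simpa using h.ext.norm c⁻¹ (comm_inv hc) x hx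
    have hcx : h.act c (cd (c⁻¹ * x * c)) = cd x := by rw [h.act_cd hc hxQ]; congr 1; group
    have e := ha.fix _ hxQ (by rw [← h.bq_act hc hu (h.lt _ hxQ), hcx, k1])
      (by rw [← h.bq_act hc hw (h.lt _ hxQ), hcx, k2])
    calc c * a * c⁻¹ * x = c * (a * (c⁻¹ * x * c)) * c⁻¹ := by group
      _ = c * ((c⁻¹ * x * c) * a) * c⁻¹ := by rw [e]
      _ = _ := by group

theorem ZT.mulQ {h : Code K8 z Q cd} {u w : ℕ} {a x : G} (ha : ZT h u w a) (hl : chkLine (u, w) = true)
    (hx : x ∈ Q) (hcx : cd x ∈ [0, u, w, u ^^^ w]) : ZT h u w (a * x) := by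
  simp only [chkLine, Bool.and_eq_true, decide_eq_true_eq, Bool.not_eq_true', List.all_eq_true] at hl
  obtain ⟨⟨⟨⟨⟨hu, hw⟩, qu⟩, qw⟩, huw⟩, -⟩ := hl
  have quw : K8.q (u ^^^ w) = false := by
    unfold bq at huw
    rw [qu, qw] at huw
    simpa using huw
  have hq0 : K8.q 0 = false := by decide +kernel
  have hself : ∀ v, bq K8 v v = false := fun v => by unfold bq; rw [Nat.xor_self, hq0]; cases K8.q v <;> rfl
  have hwu : bq K8 w u = false := by rw [bq_comm]; exact huw
  have hb0 : ∀ v, bq K8 v 0 = false := fun v => by unfold bq; rw [Nat.xor_zero, hq0]; cases K8.q v <;> rfl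
  have hperp : bq K8 u (cd x) = false ∧ bq K8 w (cd x) = false := by
    simp only [List.mem_cons, List.not_mem_nil, or_false] at hcx
    rcases hcx with e | e | e | e <;> rw [e]
    · exact ⟨hb0 u, hb0 w⟩
    · exact ⟨hself u, hwu⟩
    · exact ⟨huw, hself w⟩
    · rw [bq_addr h hu hw hu, bq_addr h hu hw hw, hself, hself, huw, hwu]; simp
  have hqx : K8.q (cd x) = false := by
    simp only [List.mem_cons, List.not_mem_nil, or_false] at hcx
    rcases hcx with e | e | e | e <;> rw [e] <;> assumption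
  have hax := ha.fix x hx hperp.1 hperp.2
  refine ⟨?_, ha.act.mul_Q hx, fun y hy k1 k2 => ?_⟩
  · calc a * x * (a * x) = a * (x * a) * x := by group
      _ = (a * a) * (x * x) := by rw [← hax]; group
      _ = 1 := by rw [ha.sq, (h.sq_iff hx).2 hqx, one_mul]
  · have hxy : x * y = y * x := (h.commute_iff hx hy).2 (by
      simp only [List.mem_cons, List.not_mem_nil, or_false] at hcx
      rcases hcx with e | e | e | e <;> rw [e]
      · rw [bq_comm]; exact hb0 _
      · exact k1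
      · exact k2
      · rw [bq_add h hu hw (h.lt y hy), k1, k2]; rfl)
    exact (Commute.mul_left (show Commute a y from ha.fix y hy k1 k2) (show Commute x y from hxy)).eq

theorem ZT.div {h : Code K8 z Q cd} {u w : ℕ} {a b : G} (ha : ZT h u w a) (hb : ZT h u w b)
    (hl : chkLine (u, w) = true) : a⁻¹ * b ∈ Q ∧ cd (a⁻¹ * b) ∈ [0, u, w, u ^^^ w] := by
  have hd : a⁻¹ * b ∈ Q := (h.mem_iff (comm_mul (comm_inv ha.comm) hb.comm)).2 fun v hv => by
    rw [h.act_mul (comm_inv ha.comm) hb.comm hv, hb.act.2 v hv, ← ha.act.2 v hv, h.act_inv_left ha.comm hv]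
  refine ⟨hd, ?_⟩
  simp only [chkLine, Bool.and_eq_true, List.all_eq_true, List.mem_range, Bool.or_eq_true, List.any_eq_true,
    List.contains_iff_mem, Bool.not_eq_true'] at hl
  refine (hl.2 _ (h.lt _ hd)).resolve_right ?_
  rintro ⟨v, hv, ⟨k1, k2⟩, k3⟩
  have hcv := h.cd_rep (show v < 2 ^ K8.n from hv)
  have c1 : Commute a (h.rep v) := ha.fix _ (h.rep_mem v) (by rw [hcv]; exact k1) (by rw [hcv]; exact k2)
  have c2 : Commute b (h.rep v) := hb.fix _ (h.rep_mem v) (by rw [hcv]; exact k1) (by rw [hcv]; exact k2)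
  have := (h.commute_iff hd (h.rep_mem v)).1 (c1.inv_left.mul_left c2).eq
  rw [hcv, k3] at this
  exact absurd this (by simp)

/-- Representatives commute as soon as one pair does. -/
theorem comm_of {h : Code K8 z Q cd} {u w u' w' : ℕ} {a b p q : G} (ha : ZT h u w a) (hb : ZT h u' w' b)
    (hp : ZT h u w p) (hq : ZT h u' w' q) (hpq : p * q = q * p) (hl : chkLine (u, w) = true)
    (hl' : chkLine (u', w') = true) (hx : bq K8 u u' = false ∧ bq K8 u w' = false ∧ bq K8 w u' = false ∧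
      bq K8 w w' = false) : a * b = b * a := by
  obtain ⟨d1, c1⟩ := hp.div ha hl
  obtain ⟨d2, c2⟩ := hq.div hb hl'
  simp only [chkLine, Bool.and_eq_true, decide_eq_true_eq] at hl hl'
  obtain ⟨hu, hw⟩ := hl.1.1.1.1
  obtain ⟨hu', hw'⟩ := hl'.1.1.1.1
  obtain ⟨x1, x2, x3, x4⟩ := hx
  have hb0 : ∀ v, bq K8 v 0 = false := fun v => by
    unfold bq; rw [Nat.xor_zero, show K8.q 0 = false by decide +kernel]; cases K8.q v <;> rfl
  have e1 : bq K8 u' (cd (p⁻¹ * a)) = false ∧ bq K8 w' (cd (p⁻¹ * a)) = false := by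
    simp only [List.mem_cons, List.not_mem_nil, or_false] at c1
    rcases c1 with e | e | e | e <;> rw [e]
    · exact ⟨hb0 _, hb0 _⟩
    · exact ⟨by rw [bq_comm]; exact x1, by rw [bq_comm]; exact x2⟩
    · exact ⟨by rw [bq_comm]; exact x3, by rw [bq_comm]; exact x4⟩
    · rw [bq_addr h hu hw hu', bq_addr h hu hw hw', bq_comm u', x1, bq_comm u' w, x3, bq_comm w', x2, bq_comm w' w,
        x4]; simp
  have e2 : bq K8 u (cd (q⁻¹ * b)) = false ∧ bq K8 w (cd (q⁻¹ * b)) = false := by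
    simp only [List.mem_cons, List.not_mem_nil, or_false] at c2
    rcases c2 with e | e | e | e <;> rw [e]
    · exact ⟨hb0 _, hb0 _⟩
    · exact ⟨x1, x3⟩
    · exact ⟨x2, x4⟩
    · rw [bq_addr h hu' hw' hu, bq_addr h hu' hw' hw, x1, x2, x3, x4]; simp
  have k1 : Commute (p⁻¹ * a) b := (show Commute b _ from hb.fix _ d1 e1.1 e1.2).symm
  have k2 : Commute p (q⁻¹ * b) := hp.fix _ d2 e2.1 e2.2
  have k3 : Commute p b := by
    have := (show Commute p q from hpq).mul_right k2
    rwa [mul_inv_cancel_left] at this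
  have := k3.mul_left k1
  rwa [mul_inv_cancel_left] at this

/-- Transport along a word. -/
theorem ZT.word {h : Code K8 z Q cd} {u w : ℕ} {a c : G} {k : List ℕ} {p : ℕ × ℕ} (ha : ZT h u w a)
    (hc : h.Acts c (wd K8 k)) (hu : u < 256) (hw : w < 256) (he : eqvL (wd K8 k u, wd K8 k w) p = true) :
    ZT h p.1 p.2 (c * a * c⁻¹) := by
  have := ha.conj hc.1 hu hw
  rw [hc.2 u hu, hc.2 w hw] at this
  exact ZT.congr (p := (wd K8 k u, wd K8 k w)) this he

end Cfsg.Agent.Invol.Co1.Local
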