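import Cfsg.Agent.Lib.Invol.Co1.Local.Frame

/-!
# Conjugations of the elementary abelian subgroup
-/

set_option autoImplicit false
set_option linter.unusedSectionVars false

namespace Cfsg.Agent.Invol.Co1.Local

open Cfsg.Agent.Classical.BinCoc Cfsg.Agent.Invol.Big Cfsg.Agent.Invol.Big.Code

/-- The images under the moving element. -/
def Xi (p i : ℕ) : ℕ :=
  if i < 8 then [3, 2, 36, 72, 144, 32, 64, 128].getD i 0
  else 2 ^ i ^^^ if p.testBit (i - 8) then 2 ^ (15 - i) else 0

/-- The indices of the ends of the last three lines. -/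
def ends (k : ℕ) : ℕ × ℕ := [(1, 2), (1, 3), (2, 3)].getD k (1, 2)

/-- The images under the duals of the basis of the singular subspace. -/
def Di (p u i : ℕ) : ℕ :=
  if i = 0 then 1
  else if i < 5 then 2 ^ i ^^^ if i - 1 = u then 1 else 0
  else if i < 8 then
    2 ^ i ^^^ if u = 0 then 2 ^ (i - 3) ^^^ (if p.testBit (i + 4) then 1 else 0) else if u = i - 4 then 3 else 0
  else
    2 ^ i ^^^ if u = (ends (i - 8)).1 then 2 ^ ((ends (i - 8)).2 + 1) ^^^ (if p.testBit (3 + 2 * (i - 8)) then 1 else 0)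
      else if u = (ends (i - 8)).2 then 2 ^ ((ends (i - 8)).1 + 1) ^^^ (if p.testBit (4 + 2 * (i - 8)) then 1 else 0)
      else 0

theorem sixlines_ok : (List.range 6).all (fun i => lns.any fun e =>
    Wok K8 e.2.2.2.2.2 && eqvL (wd K8 e.2.2.2.2.2.reverse 1, wd K8 e.2.2.2.2.2.reverse 2) (six i)) = true := by
  simp only [wok_eq]
  decide +kernel

theorem pick_ok : (List.range 3).all (fun k => (List.range 256).all fun m => !(m &&& 1820 == 0 && m % 2 == 0) ||
    (List.range 8).any fun c =>
      let r := (if c.testBit 0 then 1 else 0) ^^^ (if c.testBit 1 then 2 ^ ((ends k).1 + 1) else 0) ^^^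
        (if c.testBit 2 then 2 ^ ((ends k).2 + 1) else 0)
      decide (r < 32) && [0, (six (3 + k)).1, (six (3 + k)).2, (six (3 + k)).1 ^^^ (six (3 + k)).2].contains (r >>> 1) &&
        (m ^^^ r ^^^ linN (Xi 0) 8 r == 0 || m ^^^ r ^^^ linN (Xi 0) 8 r == 2 ^ (7 - k))) = true := by decide +kernel

theorem xfix_ok : ((List.range 256).all fun m => !(linN (Xi 0) 8 m == m && m &&& 1820 == 0) || m % 2 == 0) = true := by
  decide +kernel

theorem pair_ok : (rs.all fun w => [2, 4, 8].all fun u => !(rb.all fun v => bq K8 w v == bq K8 u v) || w == u) = true := by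
  decide +kernel

theorem dual_ok : ((List.range 4).all fun u => decide (16 * 2 ^ u < 256) && !K8.q (16 * 2 ^ u) &&
    ((List.range 4).all fun v => bq K8 (16 * 2 ^ u) (2 ^ v) == decide (v = u)) &&
    ((List.range 3).all fun j => (u == 0) || (!bq K8 1 (16 * 2 ^ u) && (bq K8 (2 ^ (j + 1)) (16 * 2 ^ u) == (u == j + 1)))) &&
    ((List.range 3).all fun j => 16 ^^^ lmap (six j).1 (six j).2 16 == 2 ^ (j + 1)) &&
    (List.range 3).all fun k =>
      ((u == (ends k).1 || u == (ends k).2) ||
        (!bq K8 (six (3 + k)).1 (16 * 2 ^ u) && !bq K8 (six (3 + k)).2 (16 * 2 ^ u))) &&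
      (!(u == (ends k).1) || (16 * 2 ^ u) ^^^ lmap (six (3 + k)).1 (six (3 + k)).2 (16 * 2 ^ u) == 2 ^ (ends k).2) &&
      (!(u == (ends k).2) || (16 * 2 ^ u) ^^^ lmap (six (3 + k)).1 (six (3 + k)).2 (16 * 2 ^ u) == 2 ^ (ends k).1)) =
    true := by decide +kernel

variable {G : Type*} [Group G] [Finite G] {z : G} {Q : Subgroup G} {cd : G → ℕ} {g : G}

/-- Commutators of the translations. -/
theorem inP_comm (P : Pr z Q cd g) {p q : G} {w v : ℕ} (hp : InP P.code g p w) (hq : InP P.code g q v) :
    p * q * p⁻¹ = (if bq K8 w v then g * z * g⁻¹ else 1) * q := by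
  have h := P.code
  have hsq : ∀ {r : G} {u : ℕ}, InP P.code g r u → r * r = if K8.q u then g * z * g⁻¹ else 1 := by
    intro r u hr
    cases hu : K8.q u
    · simpa using P.sing_sq hr hu
    · simpa using P.nonsing_sq hr hu
  have e3 := hsq (P.inP_mul hp hq)
  obtain ⟨c, hc, hce⟩ : ∃ c, (c = 1 ∨ c = g * z * g⁻¹) ∧ p * q * p⁻¹ = c * q := by
    rcases P.sq_swap hp.1 hq.1 with e | e
    · exact ⟨1, Or.inl rfl, by rw [one_mul]; exact e⟩
    · exact ⟨_, Or.inr rfl, e⟩
  have hpp : Commute (p * p) q := by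
    rw [hsq hp]
    split_ifs
    · exact (show Commute q _ from P.commute_t hq.1).symm
    · exact Commute.one_left _
  have e4 : p * q * (p * q) = c * ((p * p) * (q * q)) := by
    calc p * q * (p * q) = (p * q * p⁻¹) * ((p * p) * q) := by group
      _ = c * q * (q * (p * p)) := by rw [hce, hpp.eq]
      _ = c * ((q * q) * (p * p)) := by group
      _ = _ := by rw [(hpp.mul_right hpp).eq]
  rw [hsq hp, hsq hq, e3] at e4
  rw [hce]
  congr 1
  have hn := h.conj_ne_one g
  have ht := P.t_sq
  have hb : bq K8 w v = xor (K8.q (w ^^^ v)) (xor (K8.q w) (K8.q v)) := by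
    unfold bq; cases K8.q (w ^^^ v) <;> cases K8.q w <;> cases K8.q v <;> rfl
  rw [hb]
  revert e4
  rcases hc with rfl | rfl <;> cases K8.q w <;> cases K8.q v <;> cases K8.q (w ^^^ v) <;>
    simp [ht, hn, Ne.symm hn]

/-- An element of `Qc Q g` moving `z`. -/
theorem exists_move (P : Pr z Q cd g) : ∃ x ∈ Qc Q g, x * z * x⁻¹ = z * (g * z * g⁻¹) := by
  have h := P.code
  obtain ⟨x, hx, hxz⟩ : ∃ x ∈ Qc Q g, x * z ≠ z * x := by
    by_contra hcon
    simp only [not_exists, not_and, not_not] at hcon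
    rcases (h.extc g).cen z (h.symm P.big P.hg) hcon with e | e
    · exact h.ne e
    · exact P.hne e.symm
  refine ⟨x, hx, ?_⟩
  rcases P.sq_swap hx (h.symm P.big P.hg) with e | e
  · exact absurd (mul_inv_eq_iff_eq_mul.1 e) hxz
  · rw [e, P.t_z]

/-- The displacement of a member of `Q` is a translation. -/
theorem move_inP (P : Pr z Q cd g) {x : G} (hx : x ∈ Qc Q g) (hxz : x * z * x⁻¹ = z * (g * z * g⁻¹)) {u : ℕ}
    (hu : u ∈ [2, 4, 8]) : InP P.code g (x * P.code.rep u * x⁻¹ * (P.code.rep u)⁻¹) u := by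
  have h := P.code
  have hu' : u < 256 ∧ bq K8 1 u = false := (show ∀ u ∈ [2, 4, 8], u < 256 ∧ bq K8 1 u = false by decide +kernel) u hu
  set t := g * z * g⁻¹ with ht
  set e := h.rep u
  have he : e ∈ Q := h.rep_mem u
  have hce : cd e = u := h.cd_rep (show u < 2 ^ K8.n from hu'.1)
  have het : e * t = t * e := P.x_t he (by rw [hce]; exact hu'.2)
  have hez : e * z = z * e := h.ext.central e he
  have hxt : x * t * x⁻¹ = t := comm_left_conj (P.commute_t hx)
  have htz : t * z = z * t := P.t_z
  have htt : t * t = 1 := P.t_sq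
  set p := x * e * x⁻¹ * e⁻¹ with hp
  have hpQ : p ∈ Qc Q g := by
    rw [hp, show x * e * x⁻¹ * e⁻¹ = x * (e * x⁻¹ * e⁻¹) by group]
    exact mul_mem hx ((h.extc g).norm e het _ (inv_mem hx))
  set e' := x * e * x⁻¹
  have he't : e' * t = t * e' := by
    calc e' * t = x * e * (x⁻¹ * t * x) * x⁻¹ := by simp only [e']; group
      _ = x * (e * t) * x⁻¹ := by rw [show x⁻¹ * t * x = t by nth_rw 1 [← hxt]; group]; group
      _ = x * (t * e) * x⁻¹ := by rw [het]
      _ = (x * t * x⁻¹) * e' := by simp only [e']; group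
      _ = _ := by rw [hxt]
  have he'zt : e' * (z * t) = (z * t) * e' := by
    rw [← hxz]
    show x * e * x⁻¹ * (x * z * x⁻¹) = x * z * x⁻¹ * (x * e * x⁻¹)
    rw [conj_mul, conj_mul, hez]
  have he'z : e' * z = z * e' := by
    have := (show Commute e' (z * t) from he'zt).mul_right (show Commute e' t from he't)
    rwa [mul_assoc, P.t_sq, mul_one] at this
  have hpz : p * z = z * p := comm_mul he'z (comm_inv hez)
  obtain ⟨w, hw⟩ := P.exists_w hpQ hpz
  have hrb := rb_ok
  simp only [Bool.and_eq_true, List.all_eq_true, List.contains_iff_mem] at hrb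
  have hpair : ∀ v ∈ rb, bq K8 w v = bq K8 u v := by
    intro v hv
    obtain ⟨q, hq⟩ := P.exists_inP (hrb.1 v hv).2
    obtain ⟨c, hc, hce'⟩ : ∃ c, (c = 1 ∨ c = t) ∧ x⁻¹ * q * x = c * q := by
      have := P.sq_swap (inv_mem hx) hq.1
      rw [inv_inv] at this
      rcases this with e1 | e1
      · exact ⟨1, Or.inl rfl, by rw [one_mul]; exact e1⟩
      · exact ⟨t, Or.inr rfl, e1⟩
    have hec : e * c * e⁻¹ = c := by
      rcases hc with rfl | rfl
      · simp
      · exact comm_left_conj het
    have hb : bq K8 v (cd e) = bq K8 u v := by rw [hce, bq_comm]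
    have c1 := P.conj_x hq he (by rw [hce]; exact hu'.2)
    rw [hb] at c1
    set b := bq K8 u v
    have c1' : e⁻¹ * q * e = (if b then t * z else 1) * q := by
      have := P.conj_x hq (inv_mem he) (by rw [h.cd_inv he, hce]; exact hu'.2)
      rw [h.cd_inv he, hb, inv_inv] at this
      exact this
    have hpq : p * q * p⁻¹ = (if b then t else 1) * q := by
      have e2 : e' * q * e'⁻¹ = (if b then z else 1) * q := by
        calc e' * q * e'⁻¹ = x * ((e * c * e⁻¹) * (e * q * e⁻¹)) * x⁻¹ := by
              simp only [e']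
              rw [show x * e * x⁻¹ * q * (x * e * x⁻¹)⁻¹ = x * (e * (x⁻¹ * q * x) * e⁻¹) * x⁻¹ by group, hce']
              group
          _ = x * (c * ((if b then t * z else 1) * q)) * x⁻¹ := by rw [hec, c1]
          _ = x * ((if b then t * z else 1) * (x⁻¹ * q * x)) * x⁻¹ := by
              have hcD : Commute c (if b then t * z else 1) := by
                rcases hc with rfl | rfl
                · exact Commute.one_left _
                · split_ifs
                  · exact (Commute.refl t).mul_right htz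
                  · exact Commute.one_right _
              rw [hce', ← mul_assoc c, hcD.eq]; group
          _ = (x * (if b then t * z else 1) * x⁻¹) * q := by group
          _ = _ := by
              split_ifs
              · rw [← conj_mul, hxt, hxz, ← mul_assoc t z, htz, mul_assoc z t t, htt, mul_one]
              · simp
      calc p * q * p⁻¹ = e' * (e⁻¹ * q * e) * e'⁻¹ := by simp only [hp, e']; group
        _ = (e' * (if b then t * z else 1) * e'⁻¹) * (e' * q * e'⁻¹) := by rw [c1']; group
        _ = (if b then t * z else 1) * ((if b then z else 1) * q) := by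
              rw [e2]; congr 1
              split_ifs
              · exact comm_left_conj ((show Commute e' t from he't).mul_right (show Commute e' z from he'z)).eq
              · simp
        _ = _ := by
              split_ifs
              · rw [← mul_assoc, mul_assoc t z z, h.ext.zz, mul_one]
              · simp
    rw [inP_comm P hw hq] at hpq
    have := mul_right_cancel hpq
    revert this
    cases bq K8 w v <;> cases b <;> simp [h.conj_ne_one g, Ne.symm (h.conj_ne_one g), ht]
  have hpo := pair_ok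
  simp only [List.all_eq_true, Bool.or_eq_true, beq_iff_eq, Bool.not_eq_true', List.all_eq_false] at hpo
  rcases hpo w hw.2.2.1 u hu with ⟨v, hv, e1⟩ | e1
  · exact absurd (hpair v hv) (by simpa using e1)
  · rwa [e1] at hw

/-- The standing data with parameters. -/
structure Setup (P : Pr z Q cd g) (f : ℕ → G) (x : G) (p : ℕ) : Prop extends Frame P f where
  fam : Fam P
  xmem : x ∈ Qc Q g
  xn : x ∈ Subgroup.normalizer (Asub P : Set G)
  hx : ∀ i < 11, x * f i * x⁻¹ = elN f 11 (Xi p i)
  hD : ∀ u < 4, ∀ i < 11, P.code.rep (16 * 2 ^ u) * f i * (P.code.rep (16 * 2 ^ u))⁻¹ = elN f 11 (Di p u i)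

theorem elN_congr {f f' : ℕ → G} {k : ℕ} (h : ∀ i < k, f i = f' i) (n : ℕ) : elN f k n = elN f' k n := by
  induction k with
  | zero => rfl
  | succ k ih => simp only [elN]; rw [ih fun i hi => h i (by omega), h k (by omega)]

theorem elN_low {f : ℕ → G} {j : ℕ} {n : ℕ} (hn : n < 2 ^ j) {k : ℕ} (hk : j ≤ k) : elN f k n = elN f j n := by
  induction k, hk using Nat.le_induction with
  | base => rfl
  | succ k hk ih =>
    simp [elN, Nat.testBit_lt_two_pow (hn.trans_le (Nat.pow_le_pow_right (by norm_num) hk)), ih]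

/-- Membership in the normalizer from one inclusion. -/
theorem mem_norm {A : Subgroup G} {c : G} (h : ∀ a ∈ A, c * a * c⁻¹ ∈ A) : c ∈ Subgroup.normalizer (A : Set G) := by
  have hm : A.map (MulAut.conj c).toMonoidHom = A := by
    refine Subgroup.eq_of_le_of_card_ge (fun y ⟨a, ha, e⟩ => e ▸ h a ha) (le_of_eq ?_)
    exact Nat.card_congr (A.equivMapOfInjective _ (MulAut.conj c).injective).toEquiv
  refine Subgroup.mem_normalizer_iff.2 fun a => ⟨h a, fun ha => ?_⟩
  have : c * a * c⁻¹ ∈ A.map (MulAut.conj c).toMonoidHom := hm.symm ▸ ha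
  obtain ⟨b, hb, e⟩ := this
  rw [show a = b from mul_left_cancel (mul_right_cancel e.symm)]
  exact hb

/-- The generators fixed by the moving element. -/
noncomputable def gen0 (P : Pr z Q cd g) (x : G) (s : ℕ → G) (i : ℕ) : G :=
  if i = 0 then z
  else if i = 1 then g * z * g⁻¹
  else if i < 5 then P.code.rep (2 ^ (i - 1))
  else if i < 8 then x * P.code.rep (2 ^ (i - 4)) * x⁻¹ * (P.code.rep (2 ^ (i - 4)))⁻¹
  else s (i - 8)

theorem exists_setup (P : Pr z Q cd g) (hF : Fam P) : ∃ f x p, p < 4096 ∧ Setup P f x p := by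
  classical
  have h := P.code
  obtain ⟨x, hx, hxz⟩ := exists_move P
  have hsix := six_ok
  simp only [List.all_eq_true, Bool.and_eq_true, List.mem_range, Bool.not_eq_true', decide_eq_true_eq] at hsix
  have hl := sixlines_ok
  simp only [List.all_eq_true, List.any_eq_true, Bool.and_eq_true, List.mem_range] at hl
  have hs : ∀ k, k < 3 → ∃ a, ZT h (six (3 + k)).1 (six (3 + k)).2 a := fun k hk => by
    obtain ⟨e, -, e1, e2⟩ := hl (3 + k) (by omega)
    exact exists_zt P e1 e2
  choose! s hs using hs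
  have hgp : ∀ (s' : ℕ → G), ∀ i < 3, InP h g (gen0 P x s' (5 + i)) (2 ^ (i + 1)) := fun s' i hi => by
    have := move_inP P hx hxz (u := 2 ^ (i + 1)) (by interval_cases i <;> decide)
    interval_cases i <;> exact this
  have mk : ∀ s', (∀ k, k < 3 → ZT h (six (3 + k)).1 (six (3 + k)).2 (s' k)) → Frame P (gen0 P x s') := by
    intro s' hs'
    refine ⟨rfl, rfl, fun i h2 h5 => ?_, hgp s', fun i h3 h6 => ?_⟩
    · rw [gen0, if_neg (by omega), if_neg (by omega), if_pos h5]
      exact ⟨h.rep_mem _, h.cd_rep (by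
        rw [K8_n]; exact lt_of_lt_of_le (Nat.pow_lt_pow_right (by norm_num) (show i - 1 < 4 by omega)) (by norm_num))⟩
    · obtain ⟨k, rfl⟩ : ∃ k, i = 3 + k := ⟨i - 3, by omega⟩
      rw [gen0, if_neg (by omega), if_neg (by omega), if_neg (by omega), if_neg (by omega),
        show 5 + (3 + k) - 8 = k by omega]
      exact hs' k (by omega)
  have F0 := mk s hs
  -- the low images
  have ht := P.commute_t hx
  have hlowX : ∀ (s' : ℕ → G), Frame P (gen0 P x s') → ∀ i < 8,
      x * gen0 P x s' i * x⁻¹ = elN (gen0 P x s') 11 (Xi 0 i) := by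
    intro s' F i hi
    have e2 : ∀ j < 11, elN (gen0 P x s') 11 (2 ^ j) = gen0 P x s' j := fun j hj => elN_pow hj
    have hcomm := F.comm hF
    have hxx : ∀ a, a ∈ Asub P → x * (x * a * x⁻¹) * x⁻¹ = a := by
      intro a ha
      have : Commute (x * x) a := by
        rcases (h.extc g).sq x hx with e | e <;> rw [e]
        · exact Commute.one_left _
        · exact Subgroup.mem_centralizer_iff.1 ha _ ⟨P.hg, by rw [P.hv]; norm_num⟩
      rw [show x * (x * a * x⁻¹) * x⁻¹ = (x * x) * a * (x * x)⁻¹ by group, this.eq, mul_inv_cancel_right]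
    interval_cases i
    · show x * z * x⁻¹ = _
      rw [show Xi 0 0 = 2 ^ 0 ^^^ 2 ^ 1 from rfl, F.xor hF, e2 0 (by norm_num), e2 1 (by norm_num), hxz]
      rfl
    · show x * (g * z * g⁻¹) * x⁻¹ = _
      rw [show Xi 0 1 = 2 ^ 1 from rfl, e2 1 (by norm_num), comm_left_conj ht]
      rfl
    all_goals first
      | (rw [show Xi 0 2 = 2 ^ 5 ^^^ 2 ^ 2 from rfl, F.xor hF, e2 5 (by norm_num), e2 2 (by norm_num)]
         exact (inv_mul_cancel_right _ _).symm)
      | (rw [show Xi 0 3 = 2 ^ 6 ^^^ 2 ^ 3 from rfl, F.xor hF, e2 6 (by norm_num), e2 3 (by norm_num)]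
         exact (inv_mul_cancel_right _ _).symm)
      | (rw [show Xi 0 4 = 2 ^ 7 ^^^ 2 ^ 4 from rfl, F.xor hF, e2 7 (by norm_num), e2 4 (by norm_num)]
         exact (inv_mul_cancel_right _ _).symm)
      | skip
    all_goals
      have key : ∀ j, 2 ≤ j → j < 5 → x * gen0 P x s' (j + 3) * x⁻¹ = gen0 P x s' (j + 3) := by
        intro j h2 h5
        set a := gen0 P x s' j
        set b := gen0 P x s' (j + 3)
        have hab : x * a * x⁻¹ = b * a := by
          simp only [a, b, gen0]
          rw [if_neg (by omega), if_neg (by omega), if_pos h5, if_neg (by omega), if_neg (by omega),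
            if_neg (by omega), if_pos (by omega), show j + 3 - 4 = j - 1 by omega]
          group
        have := hxx a (F.gen_mem (by omega))
        rw [hab, ← conj_mul, hab, ← mul_assoc] at this
        have e : x * b * x⁻¹ = b⁻¹ := eq_inv_of_mul_eq_one_left (mul_eq_right.1 this)
        rw [e, inv_eq_of_mul_eq_one_right (F.sq _ (by omega))]
    · rw [show Xi 0 5 = 2 ^ 5 from rfl, e2 5 (by norm_num)]; exact key 2 le_rfl (by norm_num)
    · rw [show Xi 0 6 = 2 ^ 6 from rfl, e2 6 (by norm_num)]; exact key 3 (by norm_num) (by norm_num)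
    · rw [show Xi 0 7 = 2 ^ 7 from rfl, e2 7 (by norm_num)]; exact key 4 (by norm_num) (by norm_num)
  -- normalizing
  have hxn : x ∈ Subgroup.normalizer (Asub P : Set G) := by
    refine mem_norm fun a ha => Subgroup.mem_centralizer_iff.2 fun y hy => ?_
    have hyA : y ∈ Asub P := by
      have hlow := low_ok
      simp only [List.all_eq_true, Bool.and_eq_true, List.mem_range, Bool.not_eq_true', decide_eq_true_eq] at hlow
      exact Subgroup.mem_centralizer_iff.2 fun w hw => (h.commute_iff hw.1 hy.1).2 ((hlow _ hw.2).2 _ hy.2)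
    have hxy : x⁻¹ * y * x = x * y * x⁻¹ := by
      have hc : Commute (x * x) y := by
        rcases (h.extc g).sq x hx with e | e <;> rw [e]
        · exact Commute.one_left _
        · exact (Subgroup.mem_centralizer_iff.1 hyA _ ⟨P.hg, by rw [P.hv]; norm_num⟩)
      calc x⁻¹ * y * x = x⁻¹ * (y * (x * x)) * x⁻¹ := by group
        _ = x⁻¹ * ((x * x) * y) * x⁻¹ := by rw [hc.eq]
        _ = _ := by group
    obtain ⟨n, hn, hne⟩ := F0.surj hF hyA
    have hn8 : n < 2 ^ 8 := by
      by_contra hge
      have h32 : n < 32 := by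
        have hfa := faith_ok
        simp only [List.all_eq_true, List.mem_range, Bool.or_eq_true, Bool.not_eq_true', beq_eq_false_iff_ne,
          decide_eq_true_eq] at hfa
        refine (hfa n hn).resolve_left fun e => e (List.map_congr_left fun i hi => ?_)
        have h256 : 2 ^ i < 256 :=
          lt_of_lt_of_eq (Nat.pow_lt_pow_right (by norm_num) (List.mem_range.1 hi)) (by norm_num)
        rw [← (F0.el_act n).2 _ h256, hne]
        exact (h.mem_iff (h.ext.central y hy.1)).1 hy.1 _ h256
      omega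
    have hxyA : x * y * x⁻¹ ∈ Asub P := by
      rw [← hne, elN_low hn8 (by norm_num), elN_conj (F0.comm hF) F0.sq (hlowX s F0)]
      exact F0.el_mem _
    have := F0.comm_A hF ha (hxy ▸ hxyA : x⁻¹ * y * x ∈ Asub P)
    calc y * (x * a * x⁻¹) = x * ((x⁻¹ * y * x) * a) * x⁻¹ := by group
      _ = x * (a * (x⁻¹ * y * x)) * x⁻¹ := by rw [this]
      _ = _ := by group
  have hnew : ∀ k, k < 3 → ∃ a, ZT h (six (3 + k)).1 (six (3 + k)).2 a ∧ ∃ b : Bool,
      x * a * x⁻¹ = a * if b then gen0 P x s (7 - k) else 1 := by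
    intro k hk
    set a := s k
    have ha : a ∈ Asub P := by
      have := F0.gen_mem (i := 8 + k) (by omega)
      rwa [gen0, if_neg (by omega), if_neg (by omega), if_neg (by omega), if_neg (by omega),
        show 8 + k - 8 = k by omega] at this
    have hat : a * (g * z * g⁻¹) = g * z * g⁻¹ * a :=
      (Subgroup.mem_centralizer_iff.1 ha _ ⟨P.hg, by rw [P.hv]; norm_num⟩).symm
    have hxa : x * a * x⁻¹ ∈ Asub P := (Subgroup.mem_normalizer_iff.1 hxn a).1 ha
    obtain ⟨m, hm, hme⟩ := F0.surj hF (mul_mem (inv_mem ha) hxa)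
    have hmQ : elN (gen0 P x s) 11 m ∈ Qc Q g := by
      rw [hme, show a⁻¹ * (x * a * x⁻¹) = (a⁻¹ * x * a⁻¹⁻¹) * x⁻¹ by group]
      exact mul_mem ((h.extc g).norm a⁻¹ (Commute.inv_left (show Commute a _ from hat)).eq x hx) (inv_mem hx)
    have hmask := F0.el_Qc hF hm hmQ
    have hm8 : m < 256 := (show ∀ m < 2048, m &&& 1820 = 0 → m < 256 by decide +kernel) m hm hmask
    set e := elN (gen0 P x s) 11 m with he
    have hXm : x * e * x⁻¹ = elN (gen0 P x s) 11 (linN (Xi 0) 8 m) := by
      rw [he, elN_low (j := 8) hm8 (by norm_num)]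
      exact elN_conj (F0.comm hF) F0.sq (hlowX s F0) m
    have hxa' : x * a * x⁻¹ = a * e := by rw [hme]; group
    have heA : e ∈ Asub P := F0.el_mem _
    have hee : x * e * x⁻¹ = e := by
      have hxx : x * (x * a * x⁻¹) * x⁻¹ = a := by
        have : Commute (x * x) a := by
          rcases (h.extc g).sq x hx with e1 | e1 <;> rw [e1]
          · exact Commute.one_left _
          · exact (show Commute a _ from hat).symm
        rw [show x * (x * a * x⁻¹) * x⁻¹ = (x * x) * a * (x * x)⁻¹ by group, this.eq, mul_inv_cancel_right]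
      rw [hxa', ← conj_mul, hxa', mul_assoc] at hxx
      have e1 : e * (x * e * x⁻¹) = 1 := mul_eq_left.1 hxx
      have e2 : e * e = 1 := by rw [he, ← F0.xor hF, Nat.xor_self, elN_zero]
      exact mul_left_cancel (e1.trans e2.symm)
    have hev := xfix_ok
    simp only [List.all_eq_true, List.mem_range, Bool.or_eq_true, Bool.not_eq_true', Bool.and_eq_false_iff,
      beq_eq_false_iff_ne, beq_iff_eq] at hev
    have hXlt : ∀ m < 256, linN (Xi 0) 8 m < 2048 := by decide +kernel
    have hev' : m % 2 = 0 := (hev m hm8).resolve_left (not_or.2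
      ⟨fun hh => hh (F0.inj hF (hXlt m hm8) hm (by rw [← hXm, hee])), fun hh => hh hmask⟩)
    have hp := pick_ok
    simp only [List.all_eq_true, List.mem_range, Bool.or_eq_true, Bool.not_eq_true', Bool.and_eq_false_iff,
      beq_eq_false_iff_ne, List.any_eq_true, Bool.and_eq_true, decide_eq_true_eq, beq_iff_eq,
      List.contains_iff_mem] at hp
    obtain ⟨c, -, ⟨hr, hrc⟩, hrm⟩ := (hp k hk m hm8).resolve_left (not_or.2 ⟨fun hh => hh hmask, fun hh => hh hev'⟩)
    set r := (if c.testBit 0 then 1 else 0) ^^^ (if c.testBit 1 then 2 ^ ((ends k).1 + 1) else 0) ^^^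
      (if c.testBit 2 then 2 ^ ((ends k).2 + 1) else 0)
    set er := elN (gen0 P x s) 11 r with her
    obtain ⟨hrQ, hrcd⟩ := F0.el_low hr
    have hnz := (hs k hk).mulQ (hsix (3 + k) (by omega)).1.1.2 hrQ (by rw [hrcd]; exact hrc)
    have hXr : x * er * x⁻¹ = elN (gen0 P x s) 11 (linN (Xi 0) 8 r) := by
      rw [her, elN_low (j := 8) (lt_trans hr (by norm_num)) (by norm_num)]
      exact elN_conj (F0.comm hF) F0.sq (hlowX s F0) r
    refine ⟨a * er, hnz, ?_⟩
    have e3 : x * (a * er) * x⁻¹ = a * er * elN (gen0 P x s) 11 (m ^^^ r ^^^ linN (Xi 0) 8 r) := by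
      rw [← conj_mul, hxa', hXr, F0.xor hF, F0.xor hF, ← he, ← her]
      have e4 : er * (e * er) = e := by
        rw [her, he, ← F0.xor hF, ← F0.xor hF]
        congr 1
        rw [Nat.xor_comm r, Nat.xor_assoc, Nat.xor_self, Nat.xor_zero]
      calc a * e * elN _ 11 (linN (Xi 0) 8 r) = a * (er * (e * er)) * elN _ 11 (linN (Xi 0) 8 r) := by rw [e4]
        _ = _ := by group
    rcases hrm with e4 | e4 <;> rw [e4] at e3
    · exact ⟨false, by rw [e3, elN_zero]; simp⟩
    · exact ⟨true, by rw [e3, elN_pow (by omega)]; simp⟩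
  choose! s1 hs1 gb hgb using hnew
  have F := mk s1 hs1
  set f := gen0 P x s1 with hfdef
  have e2 : ∀ j < 11, elN f 11 (2 ^ j) = f j := fun j hj => elN_pow hj
  -- conjugation by members of `Q`
  have hval : ∀ (c : ℕ) (i : ℕ), i < 11 → ∀ d, c < 256 → d < 16 → c ^^^ P.code.act (f i) c = d →
      ∃ b : Bool, P.code.rep c * f i * (P.code.rep c)⁻¹ = elN f 11 (2 ^ i ^^^ (2 * d) ^^^ if b then 1 else 0) := by
    intro c i hi d hc hd16 hd
    have hy := h.rep_mem c
    set y := h.rep c
    have hiz : f i * z = z * f i :=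
      (Subgroup.mem_centralizer_iff.1 (F.gen_mem hi) z ⟨h.ext.mem, by rw [h.cd_z]; norm_num⟩).symm
    have hkQ : y * f i * y⁻¹ * (f i)⁻¹ ∈ Q := by
      rw [show y * f i * y⁻¹ * (f i)⁻¹ = y * (f i * y⁻¹ * (f i)⁻¹) by group]
      exact mul_mem hy (h.ext.norm _ hiz _ (inv_mem hy))
    set e := y * f i * y⁻¹ * (f i)⁻¹ with he
    have hcd : cd e = d := by
      rw [he, show y * f i * y⁻¹ * (f i)⁻¹ = y * (f i * y⁻¹ * (f i)⁻¹) by group,
        h.mul _ hy _ (h.ext.norm _ hiz _ (inv_mem hy)), ← h.act_cd hiz (inv_mem hy), h.cd_inv hy,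
        h.cd_rep (show c < 2 ^ K8.n from hc), hd]
    obtain ⟨k1, k2⟩ := F.el_low (n := 2 * d) (by omega)
    have k3 : cd (elN f 11 (2 * d)) = d := by rw [k2, Nat.shiftRight_eq_div_pow]; omega
    rcases (h.cd_eq_iff k1 hkQ).1 (k3.trans hcd.symm) with e' | e'
    · refine ⟨false, ?_⟩
      rw [if_neg (by simp), Nat.xor_zero, Nat.xor_comm, F.xor hF, e2 i hi, ← e', he, inv_mul_cancel_right]
    · refine ⟨true, ?_⟩
      rw [if_pos rfl, Nat.xor_comm (2 ^ i), Nat.xor_assoc, Nat.xor_comm (2 ^ i), ← Nat.xor_assoc, F.xor hF,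
        F.xor hF, e2 i hi, show elN f 11 1 = z from elN_pow (j := 0) (by norm_num), ← e', he, inv_mul_cancel_right]
  have hdo := dual_ok
  simp only [List.all_eq_true, List.mem_range, Bool.and_eq_true, Bool.or_eq_true, beq_iff_eq, decide_eq_true_eq,
    Bool.not_eq_true'] at hdo
  have hfl : ∀ i < 6, f (5 + i) * z = z * f (5 + i) := fun i hi => (F.line hi).comm
  have heps : ∀ j, j < 3 → ∃ b : Bool, P.code.rep 16 * f (5 + j) * (P.code.rep 16)⁻¹ =
      elN f 11 (2 ^ (5 + j) ^^^ 2 ^ (j + 2) ^^^ if b then 1 else 0) := by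
    intro j hj
    have hd := (hdo 0 (by norm_num)).1.2 j hj
    rw [← (F.line (i := j) (by omega)).act.2 16 (by rw [K8_n]; norm_num)] at hd
    have := hval 16 (5 + j) (by omega) _ (by norm_num) (by interval_cases j <;> norm_num) hd
    rwa [← pow_succ'] at this
  have heta : ∀ k, k < 3 → ∀ (e : Bool), ∃ b : Bool,
      P.code.rep (16 * 2 ^ (if e then (ends k).2 else (ends k).1)) * f (8 + k) *
        (P.code.rep (16 * 2 ^ (if e then (ends k).2 else (ends k).1)))⁻¹ =
      elN f 11 (2 ^ (8 + k) ^^^ 2 ^ ((if e then (ends k).1 else (ends k).2) + 1) ^^^ if b then 1 else 0) := by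
    intro k hk e
    have hlt : (ends k).1 < 4 ∧ (ends k).2 < 4 := by interval_cases k <;> decide
    set u := if e then (ends k).2 else (ends k).1 with hu
    have hu4 : u < 4 := by rw [hu]; split_ifs <;> omega
    have hd := (hdo u hu4).2 k hk
    have hd' : 16 * 2 ^ u ^^^ lmap (six (3 + k)).1 (six (3 + k)).2 (16 * 2 ^ u) =
        2 ^ (if e then (ends k).1 else (ends k).2) := by
      cases e
      · exact hd.1.2.resolve_left (by simp [hu])
      · exact hd.2.resolve_left (by simp [hu])
    rw [← (F.line (i := 3 + k) (by omega)).act.2 _ (show 16 * 2 ^ u < 2 ^ K8.n from (hdo u hu4).1.1.1.1.1),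
      show 5 + (3 + k) = 8 + k by omega] at hd'
    have := hval _ (8 + k) (by omega) _ (hdo u hu4).1.1.1.1.1
      (lt_of_lt_of_le (Nat.pow_lt_pow_right (by norm_num) (show _ < 4 by split_ifs <;> omega)) (by norm_num)) hd'
    rwa [← pow_succ'] at this
  choose! eps heps using heps
  choose! eta heta using heta
  let bits : Fin 12 → Bool := fun i =>
    if i.1 < 3 then gb i.1 else if i.1 < 9 then eta ((i.1 - 3) / 2) ((i.1 - 3) % 2 == 1) else eps (i.1 - 9)
  refine ⟨f, x, Nat.ofBits bits, Nat.ofBits_lt_two_pow bits, F, hF, hx, hxn, fun i hi => ?_, fun u hu i hi => ?_⟩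
  · rcases Nat.lt_or_ge i 8 with h8 | h8
    · rw [hfdef, hlowX s1 F i h8]
      simp [Xi, h8]
    · obtain ⟨k, rfl⟩ : ∃ k, i = 8 + k := ⟨i - 8, by omega⟩
      have hk : k < 3 := by omega
      have hb : (Nat.ofBits bits).testBit k = gb k := by
        rw [Nat.testBit_ofBits_lt bits k (by omega)]; simp [bits, hk]
      have hfk : f (8 + k) = s1 k := by
        rw [hfdef, gen0, if_neg (by omega), if_neg (by omega), if_neg (by omega), if_neg (by omega),
          show 8 + k - 8 = k by omega]
      have h7 : f (7 - k) = gen0 P x s (7 - k) := by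
        simp only [hfdef, gen0]
        split_ifs <;> first | rfl | omega
      simp only [Xi, if_neg (show ¬ 8 + k < 8 by omega), show 8 + k - 8 = k by omega, hb,
        show 15 - (8 + k) = 7 - k by omega]
      rw [F.xor hF, e2 _ hi, hfk, hgb k hk]
      cases gb k
      · simp [elN_zero]
      · simp [e2 (7 - k) (by omega), h7]
  · have hu0 := hdo u hu
    have hc256 : 16 * 2 ^ u < 256 := hu0.1.1.1.1.1
    set y := P.code.rep (16 * 2 ^ u) with hy
    have hyQ : y ∈ Q := h.rep_mem _
    have hcy : cd y = 16 * 2 ^ u := h.cd_rep (show _ < 2 ^ K8.n from hc256)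
    have hz0 : elN f 11 1 = z := elN_pow (j := 0) (by norm_num)
    rcases Nat.lt_or_ge i 5 with h5 | h5
    · obtain ⟨k1, k2⟩ := F.low h5
      rw [h.conj_bq hyQ k1, hcy, k2]
      rcases Nat.eq_zero_or_pos i with rfl | hi0
      · simp only [Di, if_true]
        rw [hz0, F.g0]
        simp [bn, bq, show K8.q 0 = false by decide +kernel]
      · rw [if_neg (by omega)]
        simp only [Di, if_neg (show i ≠ 0 by omega), if_pos h5]
        rw [F.xor hF, e2 i hi, bn, hu0.1.1.1.2 (i - 1) (by omega)]
        by_cases hiu : i - 1 = u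
        · simp [hiu, hz0]
        · simp [hiu, elN_zero]
    rcases Nat.lt_or_ge i 8 with h8 | h8
    · obtain ⟨j, rfl⟩ : ∃ j, i = 5 + j := ⟨i - 5, by omega⟩
      have hj : j < 3 := by omega
      have hb : (Nat.ofBits bits).testBit (5 + j + 4) = eps j := by
        rw [Nat.testBit_ofBits_lt bits _ (by omega)]
        simp [bits, show ¬ 5 + j + 4 < 3 by omega, show ¬ 5 + j + 4 < 9 by omega, show 5 + j + 4 - 9 = j by omega]
      simp only [Di, if_neg (show 5 + j ≠ 0 by omega), if_neg (show ¬ 5 + j < 5 by omega), if_pos h8, hb,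
        show 5 + j - 3 = j + 2 by omega, show 5 + j - 4 = j + 1 by omega]
      by_cases hu' : u = 0
      · subst hu'
        rw [if_pos rfl, ← Nat.xor_assoc]
        exact heps j hj
      · rw [if_neg hu']
        obtain ⟨k1, k2⟩ := (hu0.1.1.2 j hj).resolve_left hu'
        have hp := F.gp j hj
        rw [P.conj_x hp hyQ (by rw [hcy]; exact k1), hcy, k2]
        by_cases hj' : u = j + 1
        · rw [if_pos (by simpa using hj'), if_pos hj', Nat.xor_comm, F.xor hF, e2 _ hi,
            show (3 : ℕ) = 2 ^ 1 ^^^ 2 ^ 0 from rfl, F.xor hF, e2 1 (by norm_num), e2 0 (by norm_num), F.g0, F.g1]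
        · rw [if_neg (by simpa using hj'), if_neg hj', Nat.xor_zero, one_mul, e2 _ hi]
    · obtain ⟨k, rfl⟩ : ∃ k, i = 8 + k := ⟨i - 8, by omega⟩
      have hk : k < 3 := by omega
      have hend : (ends k).1 ≠ (ends k).2 := by interval_cases k <;> decide
      have hb : ∀ (e : Bool), (Nat.ofBits bits).testBit ((if e then 4 else 3) + 2 * k) = eta k e := by
        intro e
        rw [Nat.testBit_ofBits_lt bits _ (by cases e <;> simp <;> omega)]
        cases e <;> simp [bits, show ¬ 3 + 2 * k < 3 by omega, show ¬ 4 + 2 * k < 3 by omega,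
          show 3 + 2 * k < 9 by omega, show 4 + 2 * k < 9 by omega,
          show (3 + 2 * k - 3) / 2 = k by omega, show (4 + 2 * k - 3) / 2 = k by omega,
          show (3 + 2 * k - 3) % 2 = 0 by omega, show (4 + 2 * k - 3) % 2 = 1 by omega]
      have hb3 := hb false
      have hb4 := hb true
      simp only [Bool.false_eq_true, if_false, if_true] at hb3 hb4
      simp only [Di, if_neg (show 8 + k ≠ 0 by omega), if_neg (show ¬ 8 + k < 5 by omega), if_neg (show ¬ 8 + k < 8 by omega),
        show 8 + k - 8 = k by omega, hb3, hb4]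
      by_cases h1 : u = (ends k).1
      · rw [if_pos h1, ← Nat.xor_assoc, hy, h1]
        exact heta k hk false
      rw [if_neg h1]
      by_cases h2 : u = (ends k).2
      · rw [if_pos h2, ← Nat.xor_assoc, hy, h2]
        exact heta k hk true
      rw [if_neg h2, Nat.xor_zero, e2 _ hi]
      obtain ⟨k1, k2⟩ := ((hu0.2 k hk).1.1).resolve_left (by simp [h1, h2])
      have := (F.line (i := 3 + k) (by omega)).fix y hyQ (by rw [hcy]; exact k1) (by rw [hcy]; exact k2)
      rw [show 5 + (3 + k) = 8 + k by omega] at this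
      exact comm_left_conj this.symm

end Cfsg.Agent.Invol.Co1.Local
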