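import Cfsg.Agent.Lib.Invol.Co1.Local.BadPar
import Cfsg.Agent.Lib.Invol.Co1.Local.GoodPar

/-!
# The conjugates of the centre in the elementary abelian subgroup
-/

set_option autoImplicit false
set_option linter.unusedSectionVars false

namespace Cfsg.Agent.Invol.Co1.Local

open Cfsg.Agent.Classical.BinCoc Cfsg.Agent.Invol.Big Cfsg.Agent.Invol.Big.Code

theorem za_perp : (za.all fun e => (List.range 256).any fun v => !bq K8 1 v && !bq K8 2 v && bq K8 e.1 v) = true := by
  decide +kernel

theorem rev_ok : (lns.all fun e =>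
    eqvL (wd K8 e.2.2.2.2.2.reverse 1, wd K8 e.2.2.2.2.2.reverse 2) (e.2.1, e.2.2.1)) = true := by decide +kernel

theorem dual_code : ((List.range 16).all fun d => (List.range 4).all fun k =>
    ((16 * (d % 2 ^ k)) ^^^ (if d.testBit k then 16 * 2 ^ k else 0)) == 16 * (d % 2 ^ (k + 1))) = true := by
  decide +kernel

theorem Xi_lt {p i : ℕ} (hi : i < 11) : Xi p i < 2048 := by
  unfold Xi
  interval_cases i <;> simp <;> split_ifs <;> decide

theorem Di_lt {p u i : ℕ} (hu : u < 4) (hi : i < 11) : Di p u i < 2048 := by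
  unfold Di ends
  interval_cases u <;> interval_cases i <;> simp <;> split_ifs <;> decide

theorem fn_lt {p o : ℕ} (ho : o < 5) (a : ℕ) : fn p o a < 2048 := by
  unfold fn
  split_ifs
  · exact linN_lt (m := 11) (fun i hi => Xi_lt hi) a
  · exact linN_lt (m := 11) (fun i hi => Di_lt (by omega) hi) a

theorem DwN_lt {p k : ℕ} (hk : k ≤ 4) {d a : ℕ} (ha : a < 2048) : DwN p k d a < 2048 := by
  induction k generalizing a with
  | zero => exact ha
  | succ k ih =>
    refine ih (by omega) ?_
    split_ifs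
    · exact fn_lt (by omega) a
    · exact ha

theorem wmap_lt {p : ℕ} {w : List ℕ} (hw : ∀ o ∈ w, o < 5) {a : ℕ} (ha : a < 2048) : wmap p w a < 2048 := by
  induction w with
  | nil => exact ha
  | cons o w _ => exact fn_lt (hw o (List.mem_cons_self ..)) _

variable {G : Type*} [Group G] [Finite G] {z : G} {Q : Subgroup G} {cd : G → ℕ} {g : G}

/-- The element of a letter. -/
noncomputable def op (P : Pr z Q cd g) (x : G) (o : ℕ) : G := if o = 0 then x else P.code.rep (16 * 2 ^ (o - 1))

namespace Setup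

variable {P : Pr z Q cd g} {f : ℕ → G} {x : G} {p : ℕ}

theorem op_conj (S : Setup P f x p) {o : ℕ} (ho : o < 5) (a : ℕ) :
    op P x o * elN f 11 a * (op P x o)⁻¹ = elN f 11 (fn p o a) := by
  unfold op fn
  split_ifs
  · exact elN_conj (S.comm S.fam) S.sq S.hx a
  · exact elN_conj (S.comm S.fam) S.sq (S.hD _ (by omega)) a

theorem op_mem (S : Setup P f x p) {o : ℕ} (ho : o < 5) : op P x o ∈ Subgroup.normalizer (Asub P : Set G) := by
  refine mem_norm fun a ha => ?_
  obtain ⟨n, -, rfl⟩ := S.surj S.fam ha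
  rw [S.op_conj ho]
  exact S.el_mem _

/-- The element of a word. -/
theorem exists_opw (S : Setup P f x p) {w : List ℕ} (hw : ∀ o ∈ w, o < 5) :
    ∃ n ∈ Subgroup.normalizer (Asub P : Set G), ∀ a, n * elN f 11 a * n⁻¹ = elN f 11 (wmap p w a) := by
  induction w with
  | nil => exact ⟨1, one_mem _, fun a => by simp [wmap]⟩
  | cons o w ih =>
    obtain ⟨n, hn, he⟩ := ih fun o' ho' => hw o' (List.mem_cons_of_mem _ ho')
    have ho := hw o (List.mem_cons_self ..)
    refine ⟨op P x o * n, mul_mem (S.op_mem ho) hn, fun a => ?_⟩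
    rw [show op P x o * n * elN f 11 a * (op P x o * n)⁻¹ = op P x o * (n * elN f 11 a * n⁻¹) * (op P x o)⁻¹ by group,
      he, S.op_conj ho]
    rfl

/-- A combination of the duals. -/
theorem exists_dual (S : Setup P f x p) {d : ℕ} (hd : d < 16) : ∃ y ∈ Q, cd y = 16 * d ∧
    ∀ a, y * elN f 11 a * y⁻¹ = elN f 11 (DwN p 4 d a) := by
  have hc := dual_code
  simp only [List.all_eq_true, List.mem_range, beq_iff_eq] at hc
  have key : ∀ k, k ≤ 4 → ∃ y ∈ Q, cd y = 16 * (d % 2 ^ k) ∧
      ∀ a, y * elN f 11 a * y⁻¹ = elN f 11 (DwN p k d a) := by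
    intro k
    induction k with
    | zero => exact fun _ => ⟨1, one_mem _, by simp [P.code.cd_one, Nat.mod_one], fun a => by simp [DwN]⟩
    | succ k ih =>
      intro hk
      obtain ⟨y, hy, hyc, hya⟩ := ih (by omega)
      cases hb : d.testBit k
      · refine ⟨y, hy, ?_, fun a => by simp only [DwN, hb]; exact hya a⟩
        rw [hyc, ← hc d hd k (by omega), hb]; simp
      · have hr := P.code.rep_mem (16 * 2 ^ k)
        refine ⟨y * P.code.rep (16 * 2 ^ k), mul_mem hy hr, ?_, fun a => ?_⟩
        · rw [P.code.mul _ hy _ hr, hyc, P.code.cd_rep (show 16 * 2 ^ k < 2 ^ K8.n by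
            rw [K8_n]; have := Nat.pow_le_pow_right (show 1 ≤ 2 by norm_num) (show k ≤ 3 by omega); omega),
            ← hc d hd k (by omega), hb, if_pos rfl]
        · have e := S.op_conj (o := k + 1) (by omega) a
          rw [op, if_neg (by omega), Nat.add_sub_cancel] at e
          simp only [DwN, hb, if_true]
          rw [← hya, ← e]; group
  obtain ⟨y, hy, hyc, hya⟩ := key 4 le_rfl
  exact ⟨y, hy, by rwa [show 2 ^ 4 = 16 from rfl, Nat.mod_eq_of_lt hd] at hyc, hya⟩

end Setup

/-- The involutions of the first line. -/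
theorem first_cases (P : Pr z Q cd g)
    (hcard : Nat.card (Subgroup.centralizer ({z} : Set G)) = 42525 * (2 ^ 12 * Nat.card Q))
    {a : G} (ha : P.code.Acts a (lmap 1 2)) (h2 : a * a = 1) :
    (ZT P.code 1 2 a ∧ IsConj z a) ∨ (¬ ZT P.code 1 2 a ∧ ¬ IsConj z a) := by
  have h := P.code
  have hq2 : K8.q 2 = false := by decide +kernel
  obtain ⟨p, hp, -⟩ := P.exists_sing
  have hzp := zt_of_inP P hp hq2
  have hl : chkLine (1, 2) = true := by
    have := std_ok
    simp only [Bool.and_eq_true] at this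
    exact this.1.1.1.1.1.1
  have hA : P.code.Acts a (tE 2) := ⟨ha.1, fun v hv => (ha.2 v hv).trans (lmap_one 2 v hq2)⟩
  have hx : p⁻¹ * a ∈ Q := (h.mem_iff (comm_mul (comm_inv hp.2.1) hA.1)).2 fun v hv => by
    rw [h.act_mul (comm_inv hp.2.1) hA.1 hv, hA.2 v hv, ← hp.2.2.2.2 v hv, h.act_inv_left hp.2.1 hv]
  set x := p⁻¹ * a
  have hax : a = p * x := (mul_inv_cancel_left p a).symm
  rw [hax] at h2 hA ⊢
  by_cases hL : cd x ∈ [0, 1, 2, 3]
  · left
    refine ⟨hzp.mulQ hl hx hL, ?_⟩
    have hm := moved_ok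
    simp only [Bool.and_eq_true, List.all_eq_true] at hm
    have hm0 : (moved (tE 2)).contains (cd x ^^^ 0) = true := by
      rw [Nat.xor_zero]; exact hm.1 _ hL
    have h0 : P.code.rep 0 = 1 ∨ P.code.rep 0 = z :=
      (h.ker _ (h.rep_mem 0)).1 (h.cd_rep (by rw [K8_n]; norm_num))
    have hne : ∀ e : G, e ∈ Q → InP P.code g e 2 → False := fun e he hew => by
      have := (h.mem_iff hew.2.1).1 he 16 (by rw [K8_n]; norm_num)
      rw [hew.2.2.2.2 16 (by rw [K8_n]; norm_num)] at this
      exact absurd this (by decide +kernel)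
    have hp2 := P.sing_sq hp hq2
    have hz' : z ∈ Qc Q g := h.symm P.big P.hg
    have k1 : IsConj z p := h.isConj_z_Qc P.pd_ok P.moves hp.1 hp2 fun e => hne p (e ▸ one_mem _) hp
    have k2 : IsConj z (p * z) := h.isConj_z_Qc P.pd_ok P.moves (mul_mem hp.1 hz') (by
        calc p * z * (p * z) = p * (z * p) * z := by group
          _ = (p * p) * (z * z) := by rw [← hp.2.1]; group
          _ = 1 := by rw [hp2, h.ext.zz, one_mul])
      fun e => hne p (by rw [eq_inv_of_mul_eq_one_left e]; exact inv_mem h.ext.mem) hp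
    rcases shift_to h hA h2 hx (d := 0) (by norm_num) hm0 with e | e <;> rcases h0 with e' | e' <;>
      rw [e'] at e
    · exact k1.trans (by simpa using e.symm)
    · exact k2.trans e.symm
    · exact k2.trans (by simpa using e.symm)
    · rw [mul_assoc, h.ext.zz, mul_one] at e
      exact k1.trans e.symm
  · right
    refine ⟨fun hz => hL (hzp.div hz hl |>.2 |> fun k => by simpa [x] using k), ?_⟩
    have hlt := h.lt x hx
    have hp2 := P.sing_sq hp hq2
    have hcode : tE 2 (cd x) = cd x := by
      rw [← hp.2.2.2.2 _ hlt, h.act_cd hp.2.1 hx]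
      have e : p * x * p⁻¹ = x⁻¹ := by
        rw [inv_eq_of_mul_eq_one_right hp2]
        exact eq_inv_of_mul_eq_one_left (by rw [mul_assoc]; exact h2)
      rw [e, h.cd_inv hx]
    have hr := rank2_ok
    simp only [Bool.and_eq_true, List.all_eq_true, Bool.or_eq_true, Bool.not_eq_true', List.mem_range,
      beq_eq_false_iff_ne, ne_eq] at hr
    obtain ⟨hb1, hb2⟩ := ((hr (cd x) hlt).1).resolve_left (fun e => e hcode)
    have hq : K8.q (cd x) = false := by
      have e := P.sq_px hp hx hb1
      rw [hb2, if_neg (by simp), hp2, mul_one, mul_one, h2] at e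
      by_contra hc
      rw [Bool.not_eq_false] at hc
      rw [qn, if_pos hc, pow_one] at e
      exact h.ne e.symm
    have hz := za_ok
    simp only [Bool.and_eq_true, List.all_eq_true, List.mem_range, Bool.or_eq_true, beq_iff_eq] at hz
    rcases hz.2 _ hlt with (((e | e) | e) | e) | e
    · rw [hq] at e; exact absurd e (by simp)
    · rw [hb1] at e; exact absurd e (by simp)
    · rw [hb2] at e; exact absurd e (by simp)
    · exact absurd (List.contains_iff_mem.1 e) hL
    obtain ⟨⟨u, k⟩, hk, hku⟩ := List.mem_map.1 (List.contains_iff_mem.1 e)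
    obtain ⟨⟨⟨hkw, hk1⟩, hkc⟩, hk4⟩ := hz.1 _ hk
    dsimp only at hku hkw hk1 hkc hk4
    subst hku
    have hm := moved_ok
    simp only [Bool.and_eq_true, List.all_eq_true] at hm
    have hv' := List.contains_iff_mem.1 hk4
    obtain ⟨p', hp', hcon⟩ := P.rank_two hp hx h2 (by norm_num : 4 < 256) hkw hk1 hkc
      (hm.1 _ hv') (hm.1 _ ((show ∀ v ∈ [0, 1, 2, 3], v ^^^ 1 ∈ [0, 1, 2, 3] by decide) _ hv'))
    have hz4 := P.conj_z hp' (u := 4) (b := 64) (by norm_num) (by norm_num) (by decide +kernel) (by decide +kernel)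
      (by decide +kernel)
    intro hcz
    refine P.not_conj_z_R hcard (r := p' * P.code.rep 4) ⟨p', hp', rfl⟩ ?_
    rcases hcon with e | e
    · exact hcz.trans e
    · exact hcz.trans (e.trans hz4.symm)

namespace Setup

variable {P : Pr z Q cd g} {f : ℕ → G} {x : G} {p : ℕ}

theorem sound (S : Setup P f x p)
    (hcard : Nat.card (Subgroup.centralizer ({z} : Set G)) = 42525 * (2 ^ 12 * Nat.card Q))
    {a : ℕ} (ha : a < 2048) (h0 : a ≠ 0) {b : Bool} (hb : cls p a = some b) :
    IsConj z (elN f 11 a) ↔ b = true := by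
  have h := P.code
  unfold cls at hb
  split_ifs at hb with h32
  · rw [Option.some.injEq] at hb
    subst hb
    obtain ⟨hQ, hc⟩ := S.el_low h32
    have hlow := low_ok
    simp only [List.all_eq_true, Bool.and_eq_true, List.mem_range, Bool.not_eq_true', decide_eq_true_eq] at hlow
    refine iff_of_true ?_ rfl
    rcases eq_or_ne (elN f 11 a) z with e | e
    · rw [e]
    · refine h.isConj_z P.pd_ok P.moves ⟨hQ, (h.sq_iff hQ).2 ?_, fun e' => h0 ?_, e⟩
      · exact (hlow _ (by rw [hc, Nat.shiftRight_eq_div_pow]; omega)).1.2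
      · exact S.inj S.fam ha (by norm_num) (e'.trans elN_zero.symm)
  · cases hf : lns.find? (fun e => e.1 == a >>> 5) with
    | none => rw [hf] at hb; simp at hb
    | some e =>
      rw [hf, Option.map_some, Option.some.injEq] at hb
      have he := List.mem_of_find?_eq_some hf
      have hea : e.1 = a >>> 5 := by simpa using List.find?_some hf
      have hl := lns_ok
      simp only [List.all_eq_true, Bool.and_eq_true, decide_eq_true_eq, List.mem_range, Bool.not_eq_true',
        beq_iff_eq, Bool.or_eq_true, List.contains_iff_mem] at hl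
      obtain ⟨⟨⟨⟨⟨⟨⟨-, hu, hw, hd1, hd2⟩, hkw⟩, hkl⟩, hU⟩, hperp⟩, hspan⟩, hact⟩ := hl e he
      set u := e.2.1
      set w := e.2.2.1
      set A := elN f 11 a with hA
      have hsplit : 32 * e.1 + a % 32 = a := by rw [hea, Nat.shiftRight_eq_div_pow]; omega
      have hb' := hact (a % 32) (Nat.mod_lt _ (by norm_num))
      rw [hsplit] at hb'
      have hacts : P.code.Acts A (lmap u w) := ⟨(S.el_act a).1, fun v hv => by
        rw [(S.el_act a).2 v hv]
        refine lin_ext ?_ (lin_lmap h hu hw) hb' hv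
        intro i hi j hj
        rw [← (S.el_act a).2 _ (show i ^^^ j < 2 ^ K8.n from xor_lt hi hj), ← (S.el_act a).2 i hi,
          ← (S.el_act a).2 j hj, h.act_xor (S.el_act a).1 hi hj]⟩
      have hA2 : A * A = 1 := by rw [hA, ← S.xor S.fam, Nat.xor_self, elN_zero]
      obtain ⟨y1, hy1, hc1, hya1⟩ := S.exists_dual hd1
      obtain ⟨y2, hy2, hc2, hya2⟩ := S.exists_dual hd2
      have hyc : ∀ {y : G} {d : ℕ}, (∀ n, y * elN f 11 n * y⁻¹ = elN f 11 (DwN p 4 d n)) →
          (A * y = y * A ↔ DwN p 4 d a = a) := by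
        intro y d hy
        constructor
        · intro e
          refine S.inj S.fam (DwN_lt le_rfl ha) ha ?_
          rw [← hy, ← hA, ← e, mul_inv_cancel_right]
        · intro e
          exact (mul_inv_eq_iff_eq_mul.1 (by rw [hA, hy, e])).symm
      have hzt : ZT h u w A ↔ b = true := by
        rw [← hb, Bool.and_eq_true, beq_iff_eq, beq_iff_eq, ← hyc hya1, ← hyc hya2]
        constructor
        · intro hz
          exact ⟨hz.fix y1 hy1 (by rw [hc1]; exact (hperp _ (by simp)).1) (by rw [hc1]; exact (hperp _ (by simp)).2),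
            hz.fix y2 hy2 (by rw [hc2]; exact (hperp _ (by simp)).1) (by rw [hc2]; exact (hperp _ (by simp)).2)⟩
        · rintro ⟨e1, e2⟩
          refine ⟨hA2, hacts, fun y hy k1 k2 => ?_⟩
          have hval : ∀ {r y : G}, r ∈ Q → A * r = r * A → y ∈ Q → cd y = cd r → A * y = y * A := by
            intro r y hr hc hy e
            rcases (h.cd_eq_iff hr hy).1 e.symm with rfl | rfl
            · exact hc
            · exact ((show Commute A r from hc).mul_right (show Commute A z from (S.el_act a).1)).eq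
          have hU' : ∀ v < 16, A * h.rep v = h.rep v * A := fun v hv => by
            have hv' : v < 2 ^ K8.n := by rw [K8_n]; omega
            exact (Subgroup.mem_centralizer_iff.1 (S.el_mem a) _
              ⟨h.rep_mem v, by rw [h.cd_rep hv']; exact hv⟩).symm
          obtain ⟨r, hr, hrc, hrA⟩ : ∃ r ∈ Q, cd r = cd y ∧ A * r = r * A := by
            refine sp_induct (P := fun v => ∃ r ∈ Q, cd r = v ∧ A * r = r * A)
              ⟨1, one_mem _, h.cd_one, by simp⟩ (fun v hv => ?_) (fun c d ⟨r, hr, hrc, hrA⟩ ⟨s, hs, hsc, hsA⟩ =>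
                ⟨r * s, mul_mem hr hs, by rw [h.mul r hr s hs, hrc, hsc],
                  ((show Commute A r from hrA).mul_right (show Commute A s from hsA)).eq⟩) (cd y)
              ((hspan _ (h.lt y hy)).resolve_left fun hor => hor.elim (fun h' => by rw [k1] at h'; exact Bool.noConfusion h')
                fun h' => by rw [k2] at h'; exact Bool.noConfusion h')
            simp only [List.mem_cons, List.not_mem_nil, or_false] at hv
            rcases hv with rfl | rfl | rfl | rfl | rfl | rfl
            · exact ⟨_, h.rep_mem 1, h.cd_rep (by rw [K8_n]; norm_num), hU' 1 (by norm_num)⟩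
            · exact ⟨_, h.rep_mem 2, h.cd_rep (by rw [K8_n]; norm_num), hU' 2 (by norm_num)⟩
            · exact ⟨_, h.rep_mem 4, h.cd_rep (by rw [K8_n]; norm_num), hU' 4 (by norm_num)⟩
            · exact ⟨_, h.rep_mem 8, h.cd_rep (by rw [K8_n]; norm_num), hU' 8 (by norm_num)⟩
            · exact ⟨y1, hy1, hc1, e1⟩
            · exact ⟨y2, hy2, hc2, e2⟩
          exact hval hr hrA hy hrc.symm
      rw [← hzt]
      obtain ⟨c, hc, hca⟩ := h.exists_lift hkw
      have hci : h.Acts c⁻¹ (wd K8 e.2.2.2.2.2.reverse) := ⟨comm_inv hc, fun v hv => h.act_inv_word hkw hc hca hv⟩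
      have hstd : h.Acts (c * A * c⁻¹) (lmap 1 2) := by
        have hkl' := hkl
        simp only [eqvL, Bool.and_eq_true, decide_eq_true_eq, beq_iff_eq] at hkl'
        obtain ⟨⟨⟨l1, l2, -, -⟩, hbt⟩, -⟩ := hkl'
        refine Acts.conj hacts ⟨hc, hca⟩ fun v hv hlv => ?_
        have hl' : wd K8 e.2.2.2.2.2 (lmap u w v) = lmap (wd K8 e.2.2.2.2.2 u) (wd K8 e.2.2.2.2.2 w) (wd K8 e.2.2.2.2.2 v) := by
          have e0 : h.act c 0 = 0 := by
            have := h.act_xor hc (Nat.two_pow_pos K8.n) (Nat.two_pow_pos K8.n)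
            simpa using this
          have hl256 : lmap u w v < 256 := lmap_lt hu hw hv
          rw [← hca u hu, ← hca w hw, ← hca v hv, ← hca _ hl256]
          simp only [lmap]
          rw [h.bq_act hc hv hu, h.bq_act hc hv hw,
            h.act_xor hc (xor_lt hv (by split_ifs <;> first | assumption | norm_num))
              (by rw [K8_n]; split_ifs <;> first | assumption | norm_num),
            h.act_xor hc hv (by rw [K8_n]; split_ifs <;> first | assumption | norm_num)]
          cases bq K8 v u <;> cases bq K8 v w <;> simp [e0]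
        rw [hl']
        exact lin_ext (lin_lmap h l1 l2) (lin_lmap h (by norm_num) (by norm_num)) hbt (wok_lt hkw hv)
      have hcon : IsConj A (c * A * c⁻¹) := isConj_iff.2 ⟨c, rfl⟩
      rcases first_cases P hcard hstd (Pr.sq_conj hA2) with ⟨k1, k2⟩ | ⟨k1, k2⟩
      · refine iff_of_true (k2.trans hcon.symm) ?_
        have := k1.conj hci.1 (by norm_num) (by norm_num)
        rw [show c⁻¹ * (c * A * c⁻¹) * c⁻¹⁻¹ = A by group] at this
        have heq : eqvL (P.code.act c⁻¹ 1, P.code.act c⁻¹ 2) (u, w) = true := by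
          have h1 := hci.2 1 (by rw [K8_n]; norm_num)
          have h2 := hci.2 2 (by rw [K8_n]; norm_num)
          rw [h1, h2]
          exact List.all_eq_true.1 rev_ok e he
        exact ZT.congr (p := (P.code.act c⁻¹ 1, P.code.act c⁻¹ 2)) (p' := (u, w)) this heq
      · exact iff_of_false (fun e' => k2 (e'.trans hcon)) fun hz => k1 (hz.word ⟨hc, hca⟩ hu hw hkl)

end Setup

end Cfsg.Agent.Invol.Co1.Local
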