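import Cfsg.Agent.Lib.Invol.Co1.Local.Line

/-!
# Commutation of involutions attached to lines
-/

set_option autoImplicit false
set_option linter.unusedSectionVars false

namespace Cfsg.Agent.Invol.Co1.Local

open Cfsg.Agent.Classical.BinCoc Cfsg.Agent.Invol.Big Cfsg.Agent.Invol.Big.Code

theorem std_ok : (chkLine (1, 2) && chkLine (1, 4) && chkLine (1, 8) && chkLine (2, 4) && chkLine (4, 32) &&
    ([0, 1, 2, 3].all fun v => !bq K8 1 v && !bq K8 6 v && [0, 4].contains (v ^^^ lmap 4 32 v)) &&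
    lmap 4 32 2 == 6) = true := by decide +kernel

/-- The check of a pair against the standard lines `a` and `b`. -/
def chkPr (a b p p' : ℕ × ℕ) (k : List ℕ) : Bool :=
  Wok K8 k && decide (p.1 < 256 ∧ p.2 < 256 ∧ p'.1 < 256 ∧ p'.2 < 256) &&
    eqvL (wd K8 k p.1, wd K8 k p.2) a && eqvL (wd K8 k p'.1, wd K8 k p'.2) b

theorem meets_ok : (meets.all fun e => chkPr (1, 2) (1, 4) e.1 e.2.1 e.2.2) = true := by
  unfold chkPr
  simp only [wok_eq]
  decide +kernel

theorem skews_ok : (skews.all fun e => chkPr (1, 8) (2, 4) e.1 e.2.1 e.2.2) = true := by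
  unfold chkPr
  simp only [wok_eq]
  decide +kernel

theorem comms_ok : (comms.all fun e => chkPr (1, 2) (4, 32) e.1 e.2.1 e.2.2.2 &&
    decide (e.2.2.1.1 < 256 ∧ e.2.2.1.2 < 256) &&
    eqvL (wd K8 e.2.2.2.reverse 1, wd K8 e.2.2.2.reverse 4) e.2.2.1) = true := by
  unfold chkPr
  simp only [wok_eq]
  decide +kernel

variable {G : Type*} [Group G] [Finite G] {z : G} {Q : Subgroup G} {cd : G → ℕ} {g : G}

/-- The translations are attached to lines through `1`. -/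
theorem zt_of_inP (P : Pr z Q cd g) {p : G} {w : ℕ} (hp : InP P.code g p w) (hq : K8.q w = false) :
    ZT P.code 1 w p :=
  ⟨P.sing_sq hp hq, ⟨hp.2.1, fun v hv => (hp.2.2.2.2 v hv).trans (lmap_one w v hq).symm⟩,
    fun _ hx k1 k2 => P.comm_x hp hx k1 k2⟩

/-- Involutions exist on the lines reached by words. -/
theorem exists_zt (P : Pr z Q cd g) {k : List ℕ} {p : ℕ × ℕ} (hk : Wok K8 k = true)
    (he : eqvL (wd K8 k.reverse 1, wd K8 k.reverse 2) p = true) : ∃ a, ZT P.code p.1 p.2 a := by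
  obtain ⟨p2, hp2, -⟩ := P.exists_sing
  obtain ⟨c, hc, hca⟩ := P.code.exists_lift hk
  have ha : P.code.Acts c⁻¹ (wd K8 k.reverse) :=
    ⟨comm_inv hc, fun a ha => P.code.act_inv_word hk hc hca ha⟩
  exact ⟨_, (zt_of_inP P hp2 (by decide +kernel)).word ha (by norm_num) (by norm_num) he⟩

/-- Meeting standard lines. -/
theorem meet_std (P : Pr z Q cd g) {a b : G} (ha : ZT P.code 1 2 a) (hb : ZT P.code 1 4 b) : a * b = b * a := by
  have hs := std_ok
  simp only [Bool.and_eq_true] at hs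
  obtain ⟨p2, hp2, hp22⟩ := P.exists_sing
  obtain ⟨p4, hp4⟩ := P.exists_inP (show 4 ∈ rs by decide)
  have h24 : p2 * p4 = p4 * p2 := by
    have e2 := P.sing_sq (P.inP_mul hp2 hp4) (by decide +kernel)
    calc p2 * p4 = (p2 * p4)⁻¹ := eq_inv_of_mul_eq_one_left e2
      _ = _ := by
        rw [mul_inv_rev, inv_eq_of_mul_eq_one_right hp22, inv_eq_of_mul_eq_one_right (P.sing_sq hp4 (by decide +kernel))]
  exact comm_of ha hb (zt_of_inP P hp2 (by decide +kernel)) (zt_of_inP P hp4 (by decide +kernel)) h24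
    hs.1.1.1.1.1.1 hs.1.1.1.1.1.2 (by decide +kernel)

/-- The standard skew lines commute for some representatives. -/
def Fam (P : Pr z Q cd g) : Prop := ∃ s p, ZT P.code 2 4 s ∧ InP P.code g p 8 ∧ s * p = p * s

/-- Skew standard lines. -/
theorem skew_std (P : Pr z Q cd g) (hF : Fam P) {a b : G} (ha : ZT P.code 1 8 a) (hb : ZT P.code 2 4 b) :
    a * b = b * a := by
  have hs := std_ok
  simp only [Bool.and_eq_true] at hs
  obtain ⟨s, p, hs', hp, he⟩ := hF
  exact comm_of ha hb (zt_of_inP P hp (by decide +kernel)) hs' he.symm hs.1.1.1.1.2 hs.1.1.1.2 (by decide +kernel)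

/-- The commutator of two standard lines. -/
theorem comm_std (P : Pr z Q cd g) {a s : G} (ha : ZT P.code 1 2 a) (hs : ZT P.code 4 32 s) :
    ZT P.code 1 4 (a * s * a * s) := by
  have h := P.code
  have hk := std_ok
  simp only [Bool.and_eq_true, List.all_eq_true, Bool.not_eq_true', List.contains_iff_mem, beq_iff_eq] at hk
  obtain ⟨⟨⟨⟨⟨⟨hl12, hl14⟩, -⟩, -⟩, hl432⟩, hv4⟩, h26⟩ := hk
  obtain ⟨p, hp, -⟩ := P.exists_sing
  obtain ⟨he, hce⟩ := (zt_of_inP P hp (by decide +kernel)).div ha hl12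
  set e := p⁻¹ * a
  have hae : a = p * e := (mul_inv_cancel_left p a).symm
  have hst : s * (g * z * g⁻¹) * s⁻¹ = g * z * g⁻¹ :=
    comm_left_conj (hs.fix _ P.hg (by rw [P.hv]; decide +kernel) (by rw [P.hv]; decide +kernel))
  have hs2 : P.code.act s 2 = 6 := by rw [hs.act.2 2 (by rw [K8_n]; norm_num), h26]
  have hp' := P.inP_conj hp hs.comm hst (by rw [hs2]; decide)
  rw [hs2] at hp'
  have hpp := P.inP_mul hp hp'
  obtain ⟨k1, k2, k3⟩ := (⟨(hv4 _ hce).1.1, (hv4 _ hce).1.2, (hv4 _ hce).2⟩ :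
    bq K8 1 (cd e) = false ∧ bq K8 6 (cd e) = false ∧ cd e ^^^ lmap 4 32 (cd e) ∈ [0, 4])
  have hc : Commute e (s * p * s⁻¹) := (show Commute _ e from P.comm_x hp' he k1 k2).symm
  have hsi : s⁻¹ = s := inv_eq_of_mul_eq_one_right hs.sq
  have hse : s * e * s⁻¹ ∈ Q := h.ext.norm s hs.comm e he
  have e0 : a * s * a * s = (p * (s * p * s⁻¹)) * (e * (s * e * s⁻¹)) := by
    rw [hae]
    calc p * e * s * (p * e) * s = p * e * s * (p * e) * s⁻¹ := by rw [hsi]
      _ = p * (e * (s * p * s⁻¹)) * (s * e * s⁻¹) := by group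
      _ = _ := by rw [hc.eq]; group
  rw [e0]
  have h4 : (2 : ℕ) ^^^ 6 = 4 := rfl
  rw [h4] at hpp
  refine (zt_of_inP P hpp (by decide +kernel)).mulQ hl14 (mul_mem he hse) ?_
  rw [h.mul _ he _ hse, ← h.act_cd hs.comm he, hs.act.2 _ (h.lt e he)]
  revert k3
  generalize cd e ^^^ lmap 4 32 (cd e) = v
  intro hv
  simp only [List.mem_cons, List.not_mem_nil, or_false] at hv
  rcases hv with rfl | rfl <;> decide

/-- Pairs checked against standard lines. -/
theorem pair_comm (P : Pr z Q cd g) {a0 b0 p p' : ℕ × ℕ} {k : List ℕ} (hk : chkPr a0 b0 p p' k = true)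
    (hstd : ∀ {a b : G}, ZT P.code a0.1 a0.2 a → ZT P.code b0.1 b0.2 b → a * b = b * a)
    {a b : G} (ha : ZT P.code p.1 p.2 a) (hb : ZT P.code p'.1 p'.2 b) : a * b = b * a := by
  simp only [chkPr, Bool.and_eq_true, decide_eq_true_eq] at hk
  obtain ⟨⟨⟨hkw, h1, h2, h3, h4⟩, e1⟩, e2⟩ := hk
  obtain ⟨c, hc, hca⟩ := P.code.exists_lift hkw
  have e := hstd (ha.word ⟨hc, hca⟩ h1 h2 e1) (hb.word ⟨hc, hca⟩ h3 h4 e2)
  rw [conj_mul, conj_mul] at e
  exact mul_left_cancel (mul_right_cancel e)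

theorem meet (P : Pr z Q cd g) {p p' : ℕ × ℕ} {k : List ℕ} (hm : (p, p', k) ∈ meets) {a b : G}
    (ha : ZT P.code p.1 p.2 a) (hb : ZT P.code p'.1 p'.2 b) : a * b = b * a :=
  pair_comm P (List.all_eq_true.1 meets_ok _ hm) (fun x y => meet_std P x y) ha hb

theorem skew (P : Pr z Q cd g) (hF : Fam P) {p p' : ℕ × ℕ} {k : List ℕ} (hm : (p, p', k) ∈ skews) {a b : G}
    (ha : ZT P.code p.1 p.2 a) (hb : ZT P.code p'.1 p'.2 b) : a * b = b * a :=
  pair_comm P (List.all_eq_true.1 skews_ok _ hm) (fun x y => skew_std P hF x y) ha hb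

theorem comm_line (P : Pr z Q cd g) {p p' p'' : ℕ × ℕ} {k : List ℕ} (hm : (p, p', p'', k) ∈ comms) {a b : G}
    (ha : ZT P.code p.1 p.2 a) (hb : ZT P.code p'.1 p'.2 b) : ZT P.code p''.1 p''.2 (a * b * a * b) := by
  have h := comms_ok
  simp only [List.all_eq_true] at h
  have hk := h _ hm
  simp only [chkPr, Bool.and_eq_true, decide_eq_true_eq] at hk
  obtain ⟨⟨⟨⟨⟨hkw, h1, h2, h3, h4⟩, e1⟩, e2⟩, -⟩, e3⟩ := hk
  obtain ⟨c, hc, hca⟩ := P.code.exists_lift hkw
  have e := comm_std P (ha.word ⟨hc, hca⟩ h1 h2 e1) (hb.word ⟨hc, hca⟩ h3 h4 e2)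
  have := e.word (c := c⁻¹) ⟨comm_inv hc, fun a ha => P.code.act_inv_word hkw hc hca ha⟩ (by norm_num) (by norm_num) e3
  rwa [show c⁻¹ * (c * a * c⁻¹ * (c * b * c⁻¹) * (c * a * c⁻¹) * (c * b * c⁻¹)) * c⁻¹⁻¹ = a * b * a * b by group]
    at this

end Cfsg.Agent.Invol.Co1.Local
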