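import Cfsg.Agent.Lib.Invol.Co1.Local.Checks

/-!
# The coordinates in the code are invertible
-/

set_option autoImplicit false
set_option maxRecDepth 100000

namespace Cfsg.Agent.Invol.Co1.Local

theorem psi_ok : (psis.all fun e => (List.range 2048).all fun a => decide (psi e.2.1 a < 2048) &&
    decide (psi e.2.2 a < 2048) && psi e.2.2 (psi e.2.1 a) == a && psi e.2.1 (psi e.2.2 a) == a) = true := by
  decide +kernel

end Cfsg.Agent.Invol.Co1.Local
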