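import Cfsg.Agent.Lib.Invol.Co1.Local.ToM24
import Cfsg.Agent.S0051

/-!
# A subgroup of order `2 ^ 10` meeting the elementary abelian subgroup trivially, and the complement
-/

set_option autoImplicit false
set_option maxRecDepth 100000
set_option linter.unusedSectionVars false

namespace Cfsg.Agent.Invol.Co1.Local

open Cfsg.Agent.Classical.BinCoc Cfsg.Agent.Invol.Big Cfsg.Agent.Invol.Big.Code
open scoped Pointwise

section Elementary

variable {G : Type*} [Group G] {f : ℕ → G} {k : ℕ}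

/-- Generators of an elementary abelian group. -/
structure Gens (f : ℕ → G) (k : ℕ) : Prop where
  comm : ∀ i < k, ∀ j < k, Commute (f i) (f j)
  sq : ∀ i < k, f i * f i = 1

/-- The elementary abelian group they generate. -/
def Gens.sub (h : Gens f k) : Subgroup G where
  carrier := Set.range (elN f k)
  mul_mem' := by rintro _ _ ⟨a, rfl⟩ ⟨b, rfl⟩; exact ⟨a ^^^ b, elN_xor h.comm h.sq a b⟩
  one_mem' := ⟨0, elN_zero⟩
  inv_mem' := by
    rintro _ ⟨a, rfl⟩
    exact ⟨a, eq_inv_of_mul_eq_one_left (by rw [← elN_xor h.comm h.sq, Nat.xor_self, elN_zero])⟩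

theorem Gens.mem (h : Gens f k) {i : ℕ} (hi : i < k) : f i ∈ h.sub := ⟨2 ^ i, elN_pow hi⟩

theorem elN_mod (f : ℕ → G) {k j : ℕ} (hkj : k ≤ j) (n : ℕ) : elN f k (n % 2 ^ j) = elN f k n := by
  induction k with
  | zero => rfl
  | succ k ih =>
    simp only [elN, ih (by omega), Nat.testBit_mod_two_pow, show decide (k < j) = true from decide_eq_true (by omega),
      Bool.true_and]

theorem Gens.exists_lt (h : Gens f k) {x : G} (hx : x ∈ h.sub) : ∃ n < 2 ^ k, x = elN f k n := by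
  obtain ⟨n, rfl⟩ := hx
  exact ⟨n % 2 ^ k, Nat.mod_lt _ (Nat.two_pow_pos k), (elN_mod f le_rfl n).symm⟩

theorem Gens.mem_normalizer [Finite G] (h : Gens f k) {x : G} (hx : ∀ i < k, x * f i * x⁻¹ ∈ h.sub) :
    x ∈ Subgroup.normalizer (h.sub : Set G) := by
  refine mem_norm fun a ⟨n, hn⟩ => ?_
  subst hn
  suffices ∀ j ≤ k, x * elN f j n * x⁻¹ ∈ h.sub from this k le_rfl
  intro j
  induction j with
  | zero => exact fun _ => by simp [elN, h.sub.one_mem]
  | succ j ih =>
    intro hj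
    simp only [elN]
    rw [← conj_mul]
    refine mul_mem (ih (by omega)) ?_
    split_ifs
    · exact hx j (by omega)
    · simp [h.sub.one_mem]

end Elementary

/-- The composite of the chosen maps. -/
def mapN (σ : ℕ → ℕ → ℕ) : ℕ → ℕ → ℕ → ℕ
  | 0, _, v => v
  | k + 1, n, v => mapN σ k n (if n.testBit k then σ k v else v)

/-- The lines of the unitriangular group. -/
def tln (i : ℕ) : ℕ × ℕ := [(1, 64), (1, 128), (2, 64), (2, 128), (1, 32), (4, 128)].getD i (1, 32)

/-- The action of a member of the unitriangular group. -/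
def wact (n m v : ℕ) : ℕ :=
  mapN (fun i => lmap (tln i).1 (tln i).2) 4 n (mapN (fun i => lmap (tln (4 + i)).1 (tln (4 + i)).2) 2 m v)

theorem tri_ok : (xlns.all fun e => Wok K8 e.2.2 && eqvL (wd K8 e.2.2.reverse 1, wd K8 e.2.2.reverse 2) (e.1, e.2.1) &&
    chkLine (e.1, e.2.1) && bq K8 e.1 (16 * e.1) && lmap e.1 e.2.1 (16 * e.1) == (16 * e.1) ^^^ e.2.1 &&
    (List.range 4).all (fun j => (2 ^ j == e.1) || (!bq K8 e.1 (16 * 2 ^ j) && !bq K8 e.2.1 (16 * 2 ^ j))) &&
    (List.range 16).all fun v => decide (lmap e.1 e.2.1 v < 16)) = true := by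
  simp only [wok_eq]
  decide +kernel

theorem inj_ok : (List.range 16).all (fun n => (List.range 4).all fun m => (List.range 16).all fun n' =>
    (List.range 4).all fun m' => (n == n' && m == m') ||
      (List.range 4).any fun j => wact n m (2 ^ j) != wact n' m' (2 ^ j)) = true := by decide +kernel

theorem ycode_ok : ((List.range 16).all fun d => linN (fun j => 16 * 2 ^ j) 4 d == 16 * d &&
    (List.range 4).all (fun j => !bq K8 (16 * d) (16 * 2 ^ j)) && !K8.q (16 * d) &&
    (d == 0 || (List.range 4).any fun j => bq K8 (2 ^ j) (16 * d))) = true := by decide +kernel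

variable {G : Type*} [Group G] [Finite G] {z : G} {Q : Subgroup G} {cd : G → ℕ} {g : G}

theorem elN_acts (h : Code K8 z Q cd) {f : ℕ → G} {σ : ℕ → ℕ → ℕ} {k : ℕ} (hf : ∀ i < k, h.Acts (f i) (σ i)) (n : ℕ) :
    h.Acts (elN f k n) (mapN σ k n) := by
  induction k with
  | zero => exact ⟨by simp [elN], fun a ha => by simp only [elN, mapN]; exact h.act_one ha⟩
  | succ k ih =>
    obtain ⟨h1, h2⟩ := ih fun i hi => hf i (by omega)
    obtain ⟨g1, g2⟩ := hf k (by omega)
    cases hb : n.testBit k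
    · exact ⟨by simpa [elN, hb] using h1, fun a ha => by simpa [elN, mapN, hb] using h2 a ha⟩
    · refine ⟨by simpa [elN, hb] using comm_mul h1 g1, fun a ha => ?_⟩
      simp only [elN, mapN, hb, if_true]
      rw [h.act_mul h1 g1 ha, h2 _ (h.act_lt g1 a), g2 a ha]

theorem elN_code (h : Code K8 z Q cd) {f : ℕ → G} {img : ℕ → ℕ} {k : ℕ} (hf : ∀ i < k, f i ∈ Q ∧ cd (f i) = img i)
    (n : ℕ) : elN f k n ∈ Q ∧ cd (elN f k n) = linN img k n := by
  induction k with
  | zero => exact ⟨one_mem _, h.cd_one⟩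
  | succ k ih =>
    obtain ⟨h1, h2⟩ := ih fun i hi => hf i (by omega)
    obtain ⟨g1, g2⟩ := hf k (by omega)
    refine ⟨mul_mem h1 (by split_ifs <;> [exact g1; exact one_mem _]), ?_⟩
    simp only [elN, linN]
    rw [h.mul _ h1 _ (by split_ifs <;> [exact g1; exact one_mem _]), h2]
    split_ifs <;> simp [g2, h.cd_one]

/-- An involution of a superdiagonal line, acting exactly on the duals. -/
theorem exists_super (P : Pr z Q cd g) {u w : ℕ} {k : List ℕ} (hm : (u, w, k) ∈ xlns) :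
    ∃ r, ZT P.code u w r ∧ r * P.code.rep (16 * u) * r⁻¹ = P.code.rep (16 * u) * P.code.rep w := by
  have h := P.code
  have ht := tri_ok
  simp only [List.all_eq_true, Bool.and_eq_true, beq_iff_eq] at ht
  obtain ⟨⟨⟨⟨⟨⟨hk, he⟩, hl⟩, hb⟩, hmap⟩, -⟩, -⟩ := ht _ hm
  obtain ⟨r, hr⟩ := exists_zt P hk he
  have hlt : u < 256 ∧ w < 256 ∧ 16 * u < 256 := by
    have : (u, w, k) ∈ xlns := hm
    simp only [xlns, List.mem_cons, List.not_mem_nil, or_false, Prod.mk.injEq] at this
    rcases this with ⟨rfl, rfl, -⟩ | ⟨rfl, rfl, -⟩ | ⟨rfl, rfl, -⟩ <;> norm_num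
  set y := h.rep (16 * u)
  have hy : y ∈ Q := h.rep_mem _
  have hyc : cd y = 16 * u := h.cd_rep (show 16 * u < 2 ^ K8.n from hlt.2.2)
  have hw : h.rep w ∈ Q := h.rep_mem _
  have hc : cd (r * y * r⁻¹) = cd (y * h.rep w) := by
    rw [← h.act_cd hr.comm hy, hr.act.2 _ (h.lt _ hy), h.mul _ hy _ hw, hyc, hmap,
      h.cd_rep (show w < 2 ^ K8.n from hlt.2.1)]
  rcases (h.cd_eq_iff (h.ext.norm r hr.comm y hy) (mul_mem hy hw)).1 hc with e | e
  · exact ⟨r, hr, e.symm⟩
  refine ⟨r * h.rep u, hr.mulQ hl (h.rep_mem u) (by rw [h.cd_rep (show u < 2 ^ K8.n from hlt.1)]; simp), ?_⟩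
  have e1 : h.rep u * y * (h.rep u)⁻¹ = y * z := by
    rw [h.conj_bq (h.rep_mem u) hy, hyc, h.cd_rep (show u < 2 ^ K8.n from hlt.1), bn, hb]; simp
  calc r * h.rep u * y * (r * h.rep u)⁻¹ = r * (h.rep u * y * (h.rep u)⁻¹) * r⁻¹ := by group
    _ = r * y * (z * r⁻¹) := by rw [e1]; group
    _ = r * y * (r⁻¹ * z) := by rw [comm_inv hr.comm]
    _ = r * y * r⁻¹ * z := by group
    _ = _ := e.symm

/-- The subgroup of order `2 ^ 10`. -/
theorem exists_tri (P : Pr z Q cd g) (hF : Fam P) : ∃ B : Subgroup G,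
    B ≤ Subgroup.normalizer (Asub P : Set G) ∧ Nat.card B = 1024 ∧ Asub P ⊓ B = ⊥ := by
  classical
  have h := P.code
  obtain ⟨r12, z12, e12⟩ := exists_super P (show (1, 32, [34, 229]) ∈ xlns by simp [xlns])
  obtain ⟨r23, z23, e23⟩ := exists_super P (show (2, 64, [173, 239, 241, 242]) ∈ xlns by simp [xlns])
  obtain ⟨r34, z34, e34⟩ := exists_super P (show (4, 128, [100, 227, 127, 122]) ∈ xlns by simp [xlns])
  have cL : ∀ {p p' p'' : ℕ × ℕ}, (p, p', p'') ∈ comms.map (fun e => (e.1, e.2.1, e.2.2.1)) → ∀ {a b : G},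
      ZT P.code p.1 p.2 a → ZT P.code p'.1 p'.2 b → ZT P.code p''.1 p''.2 (a * b * a * b) := by
    intro p p' p'' hm a b ha hb
    obtain ⟨⟨q, q', q'', k⟩, hk, he⟩ := List.mem_map.1 hm
    obtain ⟨rfl, rfl, rfl⟩ : q = p ∧ q' = p' ∧ q'' = p'' :=
      ⟨congrArg Prod.fst he, congrArg (fun t => t.2.1) he, congrArg (fun t => t.2.2) he⟩
    exact comm_line P hk ha hb
  have mS : ∀ {p p' : ℕ × ℕ}, (p, p') ∈ (meets ++ skews).map (fun e => (e.1, e.2.1)) → ∀ {a b : G},
      ZT P.code p.1 p.2 a → ZT P.code p'.1 p'.2 b → a * b = b * a := by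
    intro p p' hm a b ha hb
    obtain ⟨⟨q, q', k⟩, hk, he⟩ := List.mem_map.1 hm
    obtain ⟨rfl, rfl⟩ : q = p ∧ q' = p' := ⟨congrArg Prod.fst he, congrArg Prod.snd he⟩
    rcases List.mem_append.1 hk with hk | hk
    · exact meet P hk ha hb
    · exact skew P hF hk ha hb
  set r13 := r12 * r23 * r12 * r23 with h13
  have z13 : ZT P.code 1 64 r13 := cL (p'' := (1, 64)) (p := (1, 32)) (p' := (2, 64)) (by decide) z12 z23
  set r24 := r23 * r34 * r23 * r34 with h24
  have z24 : ZT P.code 2 128 r24 := cL (p'' := (2, 128)) (p := (2, 64)) (p' := (4, 128)) (by decide) z23 z34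
  set r14 := r13 * r34 * r13 * r34 with h14
  have z14 : ZT P.code 1 128 r14 := cL (p'' := (1, 128)) (p := (1, 64)) (p' := (4, 128)) (by decide) z13 z34
  have z14' : ZT P.code 1 128 (r12 * r24 * r12 * r24) :=
    cL (p'' := (1, 128)) (p := (1, 32)) (p' := (2, 128)) (by decide) z12 z24
  -- commutations
  have c1324 : r13 * r24 = r24 * r13 := mS (p := (1, 64)) (p' := (2, 128)) (by decide) z13 z24
  have c1312 : r13 * r12 = r12 * r13 := mS (p := (1, 64)) (p' := (1, 32)) (by decide) z13 z12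
  have c1323 : r13 * r23 = r23 * r13 := mS (p := (1, 64)) (p' := (2, 64)) (by decide) z13 z23
  have c2423 : r24 * r23 = r23 * r24 := mS (p := (2, 128)) (p' := (2, 64)) (by decide) z24 z23
  have c2434 : r24 * r34 = r34 * r24 := mS (p := (2, 128)) (p' := (4, 128)) (by decide) z24 z34
  have c1412 : r14 * r12 = r12 * r14 := mS (p := (1, 128)) (p' := (1, 32)) (by decide) z14 z12
  have c1434 : r14 * r34 = r34 * r14 := mS (p := (1, 128)) (p' := (4, 128)) (by decide) z14 z34
  have c1413 : r14 * r13 = r13 * r14 := mS (p := (1, 128)) (p' := (1, 64)) (by decide) z14 z13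
  have c1424 : r14 * r24 = r24 * r14 := mS (p := (1, 128)) (p' := (2, 128)) (by decide) z14 z24
  have c1423 : r14 * r23 = r23 * r14 := mS (p := (1, 128)) (p' := (2, 64)) (by decide) z14 z23
  have c14'23 : (r12 * r24 * r12 * r24) * r23 = r23 * (r12 * r24 * r12 * r24) :=
    mS (p := (1, 128)) (p' := (2, 64)) (by decide) z14' z23
  have c1234 : r12 * r34 = r34 * r12 := mS (p := (1, 32)) (p' := (4, 128)) (by decide) z12 z34
  -- conjugates
  have inv12 : r12⁻¹ = r12 := inv_eq_of_mul_eq_one_right z12.sq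
  have inv23 : r23⁻¹ = r23 := inv_eq_of_mul_eq_one_right z23.sq
  have inv34 : r34⁻¹ = r34 := inv_eq_of_mul_eq_one_right z34.sq
  have inv13 : r13⁻¹ = r13 := inv_eq_of_mul_eq_one_right z13.sq
  have inv24 : r24⁻¹ = r24 := inv_eq_of_mul_eq_one_right z24.sq
  have d12 : r12 * r23 * r12⁻¹ = r13 * r23 := by
    rw [inv12, h13, mul_assoc (r12 * r23 * r12), z23.sq, mul_one]
  have d34 : r34 * r23 * r34⁻¹ = r23 * r24 := by
    rw [inv34, h24, show r23 * (r23 * r34 * r23 * r34) = (r23 * r23) * (r34 * r23 * r34) by group, z23.sq, one_mul]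
  have d34' : r34 * r13 * r34⁻¹ = r13 * r14 := by
    rw [inv34, h14, show r13 * (r13 * r34 * r13 * r34) = (r13 * r13) * (r34 * r13 * r34) by group, z13.sq, one_mul]
  have d12' : r12 * r24 * r12⁻¹ = (r12 * r24 * r12 * r24) * r24 := by
    rw [inv12, mul_assoc (r12 * r24 * r12), z24.sq, mul_one]
  have hid : r12 * r24 * r12 * r24 = r14 := by
    set t := r12 * r24 * r12 * r24
    have e1 : r34 * r13 * r34⁻¹ = (r34 * r12 * r34⁻¹) * (r34 * r23 * r34⁻¹) * (r34 * r12 * r34⁻¹) * (r34 * r23 * r34⁻¹) := by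
      rw [h13]; group
    rw [d34', d34, show r34 * r12 * r34⁻¹ = r12 by rw [← c1234]; group] at e1
    have e2 : r12 * (r23 * r24) * r12 = r13 * r23 * (t * r24) := by
      rw [← d12, ← d12', inv12]
      calc r12 * (r23 * r24) * r12 = r12 * r23 * (r12 * r12) * r24 * r12 := by rw [z12.sq]; group
        _ = _ := by group
    rw [e2] at e1
    have e3 : r13 * r23 * (t * r24) * (r23 * r24) = r13 * t := by
      calc r13 * r23 * (t * r24) * (r23 * r24) = r13 * (r23 * t) * ((r24 * r23) * r24) := by group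
        _ = r13 * (t * r23) * ((r23 * r24) * r24) := by rw [c14'23, c2423]
        _ = r13 * t * (r23 * r23) * (r24 * r24) := by group
        _ = _ := by rw [z23.sq, z24.sq, mul_one, mul_one]
    exact (mul_left_cancel (e1.trans e3)).symm
  rw [hid] at d12'
  -- the three elementary abelian groups
  let kf : ℕ → G := fun i => [r13, r14, r23, r24].getD i 1
  let hf : ℕ → G := fun i => [r12, r34].getD i 1
  let yf : ℕ → G := fun j => h.rep (16 * 2 ^ j)
  have hK : Gens kf 4 := ⟨fun i hi j hj => by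
      interval_cases i <;> interval_cases j <;> first
        | exact Commute.refl _ | exact c1413 | exact c1413.symm | exact c1323 | exact c1323.symm | exact c1324
        | exact c1324.symm | exact c1423 | exact c1423.symm | exact c1424 | exact c1424.symm | exact c2423
        | exact c2423.symm,
    fun i hi => by interval_cases i <;> [exact z13.sq; exact z14.sq; exact z23.sq; exact z24.sq]⟩
  have hH : Gens hf 2 := ⟨fun i hi j hj => by
      interval_cases i <;> interval_cases j <;> first | exact Commute.refl _ | exact c1234 | exact c1234.symm,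
    fun i hi => by interval_cases i <;> [exact z12.sq; exact z34.sq]⟩
  have hyQ : ∀ j < 4, yf j ∈ Q ∧ cd (yf j) = 16 * 2 ^ j := fun j hj =>
    ⟨h.rep_mem _, h.cd_rep (show 16 * 2 ^ j < 2 ^ K8.n by rw [K8_n]; interval_cases j <;> norm_num)⟩
  have hyc := ycode_ok
  simp only [List.all_eq_true, List.mem_range, Bool.and_eq_true, beq_iff_eq, Bool.not_eq_true', Bool.or_eq_true,
    List.any_eq_true] at hyc
  have hp4 : ∀ j < 4, 2 ^ j < 16 := fun j hj => by interval_cases j <;> norm_num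
  have hY : Gens yf 4 := ⟨fun i hi j hj => (h.commute_iff (hyQ i hi).1 (hyQ j hj).1).2 (by
      rw [(hyQ i hi).2, (hyQ j hj).2]; exact (hyc (2 ^ i) (hp4 i hi)).1.1.2 j hj),
    fun i hi => (h.sq_iff (hyQ i hi).1).2 (by rw [(hyQ i hi).2]; exact (hyc (2 ^ i) (hp4 i hi)).1.2)⟩
  -- normalizations
  have nH : hH.sub ≤ Subgroup.normalizer (hK.sub : Set G) := by
    rintro _ ⟨n, rfl⟩
    refine elN_mem fun i hi _ => hK.mem_normalizer fun j hj => ?_
    have m0 : r13 ∈ hK.sub := hK.mem (i := 0) (by norm_num)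
    have m1 : r14 ∈ hK.sub := hK.mem (i := 1) (by norm_num)
    have m2 : r23 ∈ hK.sub := hK.mem (i := 2) (by norm_num)
    have m3 : r24 ∈ hK.sub := hK.mem (i := 3) (by norm_num)
    interval_cases i <;> interval_cases j
    · show r12 * r13 * r12⁻¹ ∈ _; rw [← c1312]; simpa using m0
    · show r12 * r14 * r12⁻¹ ∈ _; rw [← c1412]; simpa using m1
    · show r12 * r23 * r12⁻¹ ∈ _; rw [d12]; exact mul_mem m0 m2
    · show r12 * r24 * r12⁻¹ ∈ _; rw [d12']; exact mul_mem m1 m3
    · show r34 * r13 * r34⁻¹ ∈ _; rw [d34']; exact mul_mem m0 m1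
    · show r34 * r14 * r34⁻¹ ∈ _; rw [← c1434]; simpa using m1
    · show r34 * r23 * r34⁻¹ ∈ _; rw [d34]; exact mul_mem m2 m3
    · show r34 * r24 * r34⁻¹ ∈ _; rw [← c2434]; simpa using m3
  have ht := tri_ok
  simp only [List.all_eq_true, Bool.and_eq_true, beq_iff_eq, Bool.or_eq_true, List.mem_range, Bool.not_eq_true',
    decide_eq_true_eq] at ht
  have nY0 : ∀ {u w : ℕ} {k : List ℕ} {r : G}, (u, w, k) ∈ xlns → ZT P.code u w r →
      r * h.rep (16 * u) * r⁻¹ = h.rep (16 * u) * h.rep w → (∃ j < 4, w = 16 * 2 ^ j) →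
      r ∈ Subgroup.normalizer (hY.sub : Set G) := by
    intro u w k r hm hz he ⟨jw, hjw, hw⟩
    refine hY.mem_normalizer fun j hj => ?_
    rcases ((ht _ hm).1.2) j hj with e | e
    · dsimp only at e
      subst e
      rw [he, hw]
      exact mul_mem (hY.mem hj) (hY.mem hjw)
    · rw [comm_left_conj (hz.fix _ (hyQ j hj).1 (by rw [(hyQ j hj).2]; exact e.1) (by rw [(hyQ j hj).2]; exact e.2))]
      exact hY.mem hj
  have n12 := nY0 (show (1, 32, [34, 229]) ∈ xlns by simp [xlns]) z12 e12 ⟨1, by norm_num, rfl⟩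
  have n23 := nY0 (show (2, 64, [173, 239, 241, 242]) ∈ xlns by simp [xlns]) z23 e23 ⟨2, by norm_num, rfl⟩
  have n34 := nY0 (show (4, 128, [100, 227, 127, 122]) ∈ xlns by simp [xlns]) z34 e34 ⟨3, by norm_num, rfl⟩
  have n13 : r13 ∈ Subgroup.normalizer (hY.sub : Set G) := mul_mem (mul_mem (mul_mem n12 n23) n12) n23
  have n24 : r24 ∈ Subgroup.normalizer (hY.sub : Set G) := mul_mem (mul_mem (mul_mem n23 n34) n23) n34
  have n14 : r14 ∈ Subgroup.normalizer (hY.sub : Set G) := mul_mem (mul_mem (mul_mem n13 n34) n13) n34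
  have nW : hK.sub ⊔ hH.sub ≤ Subgroup.normalizer (hY.sub : Set G) := by
    refine sup_le ?_ ?_ <;> rintro _ ⟨n, rfl⟩ <;> refine elN_mem fun i hi _ => ?_
    · interval_cases i <;> [exact n13; exact n14; exact n23; exact n24]
    · interval_cases i <;> [exact n12; exact n34]
  have a0 : ∀ {u w : ℕ} {k : List ℕ} {r : G}, (u, w, k) ∈ xlns → ZT P.code u w r →
      r ∈ Subgroup.normalizer (Asub P : Set G) := by
    intro u w k r hm hz
    refine norm_of_act P hz.comm fun v hv => ?_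
    rw [inv_eq_of_mul_eq_one_right hz.sq, hz.act.2 v (by rw [K8_n]; omega)]
    exact (ht _ hm).2 v hv
  have a12 := a0 (show (1, 32, [34, 229]) ∈ xlns by simp [xlns]) z12
  have a23 := a0 (show (2, 64, [173, 239, 241, 242]) ∈ xlns by simp [xlns]) z23
  have a34 := a0 (show (4, 128, [100, 227, 127, 122]) ∈ xlns by simp [xlns]) z34
  have a13 : r13 ∈ Subgroup.normalizer (Asub P : Set G) := mul_mem (mul_mem (mul_mem a12 a23) a12) a23
  have a24 : r24 ∈ Subgroup.normalizer (Asub P : Set G) := mul_mem (mul_mem (mul_mem a23 a34) a23) a34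
  have a14 : r14 ∈ Subgroup.normalizer (Asub P : Set G) := mul_mem (mul_mem (mul_mem a13 a34) a13) a34
  let B := hY.sub ⊔ (hK.sub ⊔ hH.sub)
  have hBn : B ≤ Subgroup.normalizer (Asub P : Set G) := by
    refine sup_le ?_ (sup_le ?_ ?_) <;> rintro _ ⟨n, rfl⟩ <;> refine elN_mem fun i hi _ => ?_
    · have hz := h.ext.central _ (hyQ i hi).1
      exact norm_of_act P hz fun v hv => by
        rw [(h.mem_iff (comm_inv hz)).1 (inv_mem (hyQ i hi).1) v (show v < 2 ^ K8.n by rw [K8_n]; omega)]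
        exact hv
    · interval_cases i <;> [exact a13; exact a14; exact a23; exact a24]
    · interval_cases i <;> [exact a12; exact a34]
  have hzk : ∀ i < 4, P.code.Acts (kf i) (lmap (tln i).1 (tln i).2) := fun i hi => by
    interval_cases i <;> [exact z13.act; exact z14.act; exact z23.act; exact z24.act]
  have hzh : ∀ i < 2, P.code.Acts (hf i) (lmap (tln (4 + i)).1 (tln (4 + i)).2) := fun i hi => by
    interval_cases i <;> [exact z12.act; exact z34.act]
  let φ : Fin 16 × Fin 16 × Fin 4 → G := fun t => elN yf 4 t.1.1 * (elN kf 4 t.2.1.1 * elN hf 2 t.2.2.1)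
  have hact : ∀ (t : Fin 16 × Fin 16 × Fin 4) (j : ℕ), j < 4 →
      P.code.act (φ t) (2 ^ j) = wact t.2.1.1 t.2.2.1 (2 ^ j) := by
    intro t j hj
    have h256 : 2 ^ j < 2 ^ K8.n := by rw [K8_n]; have := hp4 j hj; omega
    obtain ⟨k1, k2⟩ := elN_acts P.code hzk t.2.1.1
    obtain ⟨m1, m2⟩ := elN_acts P.code hzh t.2.2.1
    obtain ⟨y1, -⟩ := elN_code P.code hyQ t.1.1
    have yz := h.ext.central _ y1
    show P.code.act (_ * (_ * _)) _ = _
    rw [h.act_mul yz (comm_mul k1 m1) h256, (h.mem_iff yz).1 y1 _ (h.act_lt (comm_mul k1 m1) _),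
      h.act_mul k1 m1 h256, m2 _ h256, k2 _ (m2 _ h256 ▸ h.act_lt m1 _)]
    rfl
  have hsep : ∀ t t' : Fin 16 × Fin 16 × Fin 4, (∀ j < 4, P.code.act (φ t) (2 ^ j) = P.code.act (φ t') (2 ^ j)) →
      t.2 = t'.2 := by
    intro t t' he
    have hi := inj_ok
    simp only [List.all_eq_true, List.mem_range, Bool.or_eq_true, Bool.and_eq_true, beq_iff_eq, List.any_eq_true,
      bne_iff_ne] at hi
    rcases hi _ t.2.1.2 _ t.2.2.2 _ t'.2.1.2 _ t'.2.2.2 with ⟨e1, e2⟩ | ⟨j, hj, e⟩
    · exact Prod.ext (Fin.ext e1) (Fin.ext e2)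
    · rw [← hact t j hj, ← hact t' j hj] at e
      exact absurd (he j hj) e
  have hcode : ∀ d : Fin 16, cd (elN yf 4 d.1) = 16 * d.1 := fun d => by
    rw [(elN_code P.code hyQ d.1).2]; exact (hyc _ d.2).1.1.1
  have hinj : Function.Injective φ := by
    intro t t' he
    have h2 := hsep t t' fun j _ => by rw [he]
    refine Prod.ext (Fin.ext ?_) h2
    have he' : elN yf 4 t.1.1 = elN yf 4 t'.1.1 := by
      simp only [φ, h2] at he
      exact mul_right_cancel he
    have := hcode t.1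
    rw [he', hcode] at this
    omega
  have hrange : (B : Set G) = Set.range φ := by
    show ((hY.sub ⊔ (hK.sub ⊔ hH.sub) : Subgroup G) : Set G) = _
    rw [Subgroup.coe_mul_of_right_le_normalizer_left _ _ nW, Subgroup.coe_mul_of_right_le_normalizer_left _ _ nH]
    ext x
    constructor
    · rintro ⟨y, hy, _, ⟨k, hk, m, hm, rfl⟩, rfl⟩
      obtain ⟨d, hd, rfl⟩ := hY.exists_lt hy
      obtain ⟨n, hn, rfl⟩ := hK.exists_lt hk
      obtain ⟨m', hm', rfl⟩ := hH.exists_lt hm
      exact ⟨(⟨d, hd⟩, ⟨n, hn⟩, ⟨m', hm'⟩), rfl⟩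
    · rintro ⟨t, rfl⟩
      exact Set.mul_mem_mul ⟨_, rfl⟩ (Set.mul_mem_mul ⟨_, rfl⟩ ⟨_, rfl⟩)
  refine ⟨B, hBn, ?_, (Subgroup.eq_bot_iff_forall _).2 fun x hx => ?_⟩
  · show Nat.card (B : Set G) = _
    rw [hrange, Nat.card_range_of_injective hinj]
    simp
  · obtain ⟨hxA, hxB⟩ := hx
    obtain ⟨t, rfl⟩ : x ∈ Set.range φ := hrange ▸ hxB
    have hcen := Subgroup.mem_centralizer_iff.1 hxA
    have hfix : ∀ j < 4, P.code.act (φ t) (2 ^ j) = 2 ^ j := fun j hj => by
      have hv' : 2 ^ j < 2 ^ K8.n := by rw [K8_n]; have := hp4 j hj; omega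
      have := hcen _ ⟨h.rep_mem (2 ^ j), by rw [h.cd_rep hv']; exact hp4 j hj⟩
      show cd (_ * h.rep (2 ^ j) * _) = _
      rw [← this, mul_inv_cancel_right, h.cd_rep hv']
    have h0 : φ (0, 0, 0) = 1 := by simp [φ, elN_zero]
    have h2 := hsep t (0, 0, 0) fun j hj => by
      rw [hfix j hj, h0, h.act_one (show 2 ^ j < 2 ^ K8.n by rw [K8_n]; have := hp4 j hj; omega)]
    have ht' : φ t = elN yf 4 t.1.1 := by simp [φ, h2, elN_zero]
    rw [ht'] at hcen ⊢
    rcases (hyc _ t.1.2).2 with e | ⟨j, hj, e⟩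
    · rw [e, elN_zero]
    · have hv' : 2 ^ j < 2 ^ K8.n := by rw [K8_n]; have := hp4 j hj; omega
      have := (h.commute_iff (h.rep_mem (2 ^ j)) (elN_code P.code hyQ t.1.1).1).1
        (hcen _ ⟨h.rep_mem (2 ^ j), by rw [h.cd_rep hv']; exact hp4 j hj⟩)
      rw [h.cd_rep hv', hcode, e] at this
      exact absurd this (by simp)

namespace Setup

variable {P : Pr z Q cd g} {f : ℕ → G} {x : G}

/-- The extension splits. -/
theorem exists_complement {e : ℕ × List ℕ × List ℕ} (S : Setup P f x e.1) (he : e ∈ psis)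
    (hcard : Nat.card (Subgroup.centralizer ({z} : Set G)) = 42525 * (2 ^ 12 * Nat.card Q))
    (h512 : Nat.card Q = 512) :
    ∃ K : Subgroup ↥(Subgroup.normalizer (Asub P : Set G)),
      ((Asub P).subgroupOf (Subgroup.normalizer (Asub P : Set G))).IsComplement' K := by
  obtain ⟨B, hB, hB1024, hAB⟩ := exists_tri P S.fam
  set N := Subgroup.normalizer (Asub P : Set G)
  obtain ⟨φ, hker, hsurj, -⟩ := S.exists_hom he hcard h512
  set An := (Asub P).subgroupOf N
  set Bn := B.subgroupOf N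
  haveI : An.Normal := Subgroup.normal_in_normalizer
  haveI : IsMulCommutative An := ⟨⟨fun a b => Subtype.ext (Subtype.ext (S.comm_A S.fam a.2 b.2))⟩⟩
  have hdis : Disjoint An Bn := Subgroup.disjoint_def.2 fun {y} h1 h2 => by
    have : (y : G) ∈ Asub P ⊓ B := ⟨h1, h2⟩
    rw [hAB, Subgroup.mem_bot] at this
    exact Subtype.ext this
  have hcA : Nat.card An = 2 ^ 11 := by
    rw [Nat.card_congr (Subgroup.subgroupOfEquivOfLe (Subgroup.le_normalizer (H := Asub P))).toEquiv, S.card S.fam]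
  have hcB : Nat.card Bn = 1024 := by
    rw [Nat.card_congr (Subgroup.subgroupOfEquivOfLe hB).toEquiv, hB1024]
  have hcU : Nat.card (An ⊔ Bn : Subgroup N) = 2 ^ 11 * 1024 := by
    rw [← hcA, ← hcB, ← Nat.card_prod]
    refine (Nat.card_eq_of_bijective (fun t : An × Bn => (⟨t.1.1 * t.2.1, mul_mem (Subgroup.mem_sup_left t.1.2)
      (Subgroup.mem_sup_right t.2.2)⟩ : (An ⊔ Bn : Subgroup N))) ⟨fun a b hab => ?_, fun y => ?_⟩).symm
    · exact Subgroup.mul_injective_of_disjoint hdis (congrArg Subtype.val hab)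
    · obtain ⟨a, ha, b, hb, hab⟩ := Subgroup.mem_sup_of_normal_left.1 y.2
      exact ⟨(⟨a, ha⟩, ⟨b, hb⟩), Subtype.ext hab⟩
  have hN : Nat.card N = 2 ^ 11 * 244823040 := by
    have h1 := Subgroup.card_eq_card_quotient_mul_card_subgroup φ.ker
    rw [Nat.card_congr (QuotientGroup.quotientKerEquivOfSurjective φ hsurj).toEquiv, hker, hcA,
      Spor.Golay.card_M24] at h1
    rw [h1, mul_comm]
  have hidx : (An ⊔ Bn).index = 239085 := by
    have := (An ⊔ Bn).card_mul_index
    rw [hcU, hN] at this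
    omega
  exact Cfsg.Agent.S0051.result An (An ⊔ Bn) le_sup_left (by rw [hcA, hidx]; norm_num) Bn le_sup_right
    (inf_comm An Bn ▸ hdis.eq_bot) rfl

end Setup

end Cfsg.Agent.Invol.Co1.Local
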