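import Cfsg.Agent.Lib.Invol.Co1.Local.Checks
import Cfsg.Agent.Lib.Spor.GolayLinearOrbits
import Cfsg.Agent.Lib.Spor.Golay.M24Facts

/-!
# The code modulo the all-one word, in indices
-/

set_option autoImplicit false
set_option maxRecDepth 100000

namespace Cfsg.Agent.Invol.Co1.Local

open Cfsg Cfsg.Agent.Spor.Golay
open scoped Pointwise

/-- The set of points of an index. -/
def wset (k : ℕ) : Finset GolayPt := pts (enc k)

/-- The complement in the top bit. -/
def top (k : ℕ) : ℕ := if k.testBit 11 then 4095 else 0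

/-- The representative without the top bit. -/
def red (k : ℕ) : ℕ := k ^^^ top k

theorem index_ok : (enc 0 = 0 ∧ enc 4095 = 16777215) ∧
    (List.range 4096).all (fun k => decide (red k < 2048) && decide (enc k < 16777216) && (enc k % 4096 == k)) = true ∧
    (List.range 2048).all (fun k => red k == k) = true ∧
    (List.range 2048).all (fun k => k == 0 || pop (enc k) == 12 || oct k) = true ∧
    (List.range 2048).all (fun k => !oct k || (k != 0 && (pop (enc k) == 8 || pop (enc (k ^^^ 4095)) == 8))) = true ∧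
    ((List.range 2048).filter oct).length = 759 ∧
    (List.range 2048).any (fun k => k != 0 && !oct k) = true := by decide +kernel

theorem sep_ok : (List.range 24).all (fun i => (List.range 24).all fun l =>
    i == l || basis.any fun b => b.testBit i != b.testBit l) = true := by decide +kernel

theorem enc_mem {k : ℕ} (hk : k < 4096) : enc k ∈ codeList :=
  List.mem_map.2 ⟨k, List.mem_range.2 hk, rfl⟩

theorem enc_inj {a b : ℕ} (ha : a < 4096) (hb : b < 4096) (h : enc a = enc b) : a = b := by
  have h' := index_ok.2.1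
  simp only [List.all_eq_true, List.mem_range, Bool.and_eq_true, beq_iff_eq] at h'
  rw [← (h' a ha).2, h, (h' b hb).2]

theorem wset_inj {a b : ℕ} (ha : a < 4096) (hb : b < 4096) (h : wset a = wset b) : a = b :=
  enc_inj ha hb (pts_injOn (codeList_lt (enc_mem ha)) (codeList_lt (enc_mem hb)) h)

theorem red_lt {k : ℕ} (hk : k < 4096) : red k < 2048 := by
  have h := index_ok.2.1
  simp only [List.all_eq_true, List.mem_range, Bool.and_eq_true, decide_eq_true_eq] at h
  exact (h k hk).1.1

theorem red_low {k : ℕ} (hk : k < 2048) : red k = k := by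
  have h := index_ok.2.2.1
  simp only [List.all_eq_true, List.mem_range, beq_iff_eq] at h
  exact h k hk

theorem top_xor (a b : ℕ) : top (a ^^^ b) = top a ^^^ top b := by
  unfold top
  rw [Nat.testBit_xor]
  cases a.testBit 11 <;> cases b.testBit 11 <;> simp

theorem red_xor (a b : ℕ) : red (a ^^^ b) = red a ^^^ red b := by
  unfold red
  rw [top_xor]
  simp [Nat.xor_assoc, Nat.xor_comm, Nat.xor_left_comm]

theorem red_top (k : ℕ) : red k ^^^ top k = k := by
  rw [red, Nat.xor_assoc, Nat.xor_self, Nat.xor_zero]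

theorem wset_compl (k : ℕ) : wset (k ^^^ 4095) = (wset k)ᶜ := by
  rw [wset, wset, pts_compl, enc_xor, index_ok.1.2, Nat.xor_comm]

theorem wset_compl_ne {a b : ℕ} (ha : a < 2048) (hb : b < 2048) : wset a ≠ (wset b)ᶜ := by
  intro e
  rw [← wset_compl] at e
  have hb' : b ^^^ 4095 < 4096 := Nat.xor_lt_two_pow (n := 12) (by omega) (by norm_num)
  have h := congrArg (fun k => k.testBit 11) (wset_inj (by omega) hb' e)
  simp only [Nat.testBit_xor] at h
  rw [Nat.testBit_lt_two_pow (show a < 2 ^ 11 from ha), Nat.testBit_lt_two_pow (show b < 2 ^ 11 from hb)] at h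
  exact absurd h (by decide +kernel)

theorem wset_red {k : ℕ} : wset k = wset (red k) ∨ wset k = (wset (red k))ᶜ := by
  cases h : k.testBit 11 with
  | false => left; rw [show red k = k by simp [red, top, h]]
  | true => right; rw [show red k = k ^^^ 4095 by simp [red, top, h], wset_compl, compl_compl]

/-- Equal up to complement. -/
def Sim (s t : Finset GolayPt) : Prop := s = t ∨ s = tᶜ

theorem smul_compl_set (σ : Equiv.Perm GolayPt) (s : Finset GolayPt) : σ • sᶜ = (σ • s)ᶜ := by
  ext p; simp [← Finset.inv_smul_mem_iff]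

theorem Sim.smul (σ : Equiv.Perm GolayPt) {s t : Finset GolayPt} (h : Sim s t) : Sim (σ • s) (σ • t) := by
  rcases h with rfl | rfl
  · exact Or.inl rfl
  · exact Or.inr (smul_compl_set σ t)

theorem Sim.trans {s t u : Finset GolayPt} (h : Sim s t) (h' : Sim t u) : Sim s u := by
  rcases h with rfl | rfl <;> rcases h' with rfl | rfl
  · exact Or.inl rfl
  · exact Or.inr rfl
  · exact Or.inr rfl
  · exact Or.inl (compl_compl u)

theorem Sim.symm {s t : Finset GolayPt} (h : Sim s t) : Sim t s := by
  rcases h with rfl | rfl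
  · exact Or.inl rfl
  · exact Or.inr (compl_compl t).symm

theorem sim_index {a b : ℕ} (ha : a < 2048) (hb : b < 2048) (h : Sim (wset a) (wset b)) : a = b :=
  h.elim (wset_inj (by omega) (by omega)) fun e => absurd e (wset_compl_ne ha hb)

/-- Indices of the same kind are in one orbit of the code group. -/
theorem same_class {i j : ℕ} (hi : i < 2048) (hj : j < 2048) (h0 : i = 0 ↔ j = 0) (ho : oct i = oct j) :
    ∃ σ ∈ M24, Sim (σ • wset i) (wset j) := by
  by_cases hz : i = 0
  · exact ⟨1, one_mem _, by rw [one_smul, hz, h0.1 hz]; exact Or.inl rfl⟩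
  have hz' : j ≠ 0 := fun e => hz (h0.2 e)
  obtain ⟨-, -, -, hd, hoc, -⟩ := index_ok
  simp only [List.all_eq_true, List.mem_range, Bool.or_eq_true, Bool.and_eq_true, beq_iff_eq, Bool.not_eq_true',
    bne_iff_ne] at hd hoc
  cases h : oct i
  · have hdod : ∀ k < 2048, k ≠ 0 → oct k = false → wset k ∈ dodecads := fun k hk hk0 hko =>
      mem_dodecads.2 ⟨_, mem_weightList.2 ⟨enc_mem (by omega),
        ((hd k hk).resolve_right (by simp [hko])).resolve_left hk0⟩, rfl⟩
    obtain ⟨g, hg, e⟩ := exists_smul_dd (hdod i hi hz h)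
    obtain ⟨g', hg', e'⟩ := exists_smul_dd (hdod j hj hz' (ho ▸ h))
    exact ⟨g' * g⁻¹, mul_mem hg' (inv_mem hg), Or.inl (by rw [mul_smul, ← e, inv_smul_smul, e'])⟩
  · have hoctad : ∀ k < 2048, oct k = true → ∃ o ∈ octads, Sim (wset k) o := fun k hk hko => by
      rcases ((hoc k hk).resolve_left (by simp [hko])).2 with e | e
      · exact ⟨_, mem_octads.2 ⟨_, mem_weightList.2 ⟨enc_mem (by omega), e⟩, rfl⟩, Or.inl rfl⟩
      · refine ⟨wset (k ^^^ 4095), mem_octads.2 ⟨_, mem_weightList.2 ⟨enc_mem ?_, e⟩, rfl⟩, Or.inr ?_⟩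
        · exact Nat.xor_lt_two_pow (n := 12) (by omega) (by norm_num)
        · rw [wset_compl, compl_compl]
    obtain ⟨o, hoo, so⟩ := hoctad i hi h
    obtain ⟨o', hoo', so'⟩ := hoctad j hj (ho ▸ h)
    obtain ⟨g, hg, e⟩ := exists_smul_octA hoo
    obtain ⟨g', hg', e'⟩ := exists_smul_octA hoo'
    refine ⟨g' * g⁻¹, mul_mem hg' (inv_mem hg), (so.smul _).trans ?_⟩
    rw [mul_smul, ← e, inv_smul_smul, e']
    exact so'.symm

/-- A permutation fixing all octads modulo complements is trivial. -/
theorem perm_eq {σ τ : Equiv.Perm GolayPt} (h : ∀ j < 2048, Sim (σ • wset j) (τ • wset j)) : σ = τ := by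
  have hb : ∀ b ∈ basis, σ • pts b = τ • pts b := by
    intro b hb
    obtain ⟨hc, h8⟩ := mem_weightList.1 (basis_octad b hb)
    obtain ⟨k, hk, rfl⟩ := List.mem_map.1 hc
    rw [List.mem_range] at hk
    have hs : Sim (wset k) (wset (red k)) := wset_red
    rcases ((hs.smul σ).trans (h _ (red_lt hk))).trans (hs.smul τ).symm with e | e
    · exact e
    · have := congrArg Finset.card e
      rw [Finset.card_compl, Finset.card_smul_finset, Finset.card_smul_finset, card_golayPt, wset, card_pts, h8] at this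
      omega
  refine Equiv.ext fun p => ?_
  suffices ∀ q, τ⁻¹ (σ p) = q → q = p by
    have := this _ rfl
    rw [Equiv.Perm.inv_eq_iff_eq] at this
    exact this
  intro q hq
  by_contra hne
  have hs := sep_ok
  simp only [List.all_eq_true, List.mem_range, Bool.or_eq_true, List.any_eq_true, beq_iff_eq, bne_iff_ne] at hs
  obtain ⟨b, hbm, hbit⟩ := (hs _ (idx_lt q) _ (idx_lt p)).resolve_left fun e => hne (idx_injective e)
  have e := congrArg (fun s => σ p ∈ s) (hb b hbm)
  simp only [eq_iff_iff] at e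
  rw [← Finset.inv_smul_mem_iff, ← Finset.inv_smul_mem_iff, Equiv.Perm.smul_def, Equiv.Perm.smul_def,
    show σ⁻¹ (σ p) = p from σ.symm_apply_apply p, hq, mem_pts, mem_pts] at e
  exact hbit (Bool.eq_iff_iff.2 e.symm)

theorem ext_wset {v w : GolayPt → ZMod 2} (h : support₂ v = support₂ w) : v = w := eq_of_support h

theorem support_perm (σ : Equiv.Perm GolayPt) (m : ℕ) :
    support₂ (fun p => vec m (σ.symm p)) = σ • pts m := by
  ext p
  rw [← Finset.inv_smul_mem_iff, Equiv.Perm.smul_def, Equiv.Perm.coe_inv, ← support_vec]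
  simp [support₂]

/-- The word of an index. -/
noncomputable def cw (k : ℕ) : ↥golayCode := if hk : k < 4096 then ⟨vec (enc k), mem_golayCode.2 ⟨_, enc_mem hk, rfl⟩⟩ else 0

theorem coe_cw {k : ℕ} (hk : k < 4096) : (cw k : GolayPt → ZMod 2) = vec (enc k) := by rw [cw, dif_pos hk]

theorem cw_xor {a b : ℕ} (ha : a < 4096) (hb : b < 4096) : cw (a ^^^ b) = cw a + cw b := by
  refine Subtype.ext ?_
  rw [Submodule.coe_add, coe_cw ha, coe_cw hb, coe_cw (Nat.xor_lt_two_pow (n := 12) ha hb), enc_xor, vec_xor]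

theorem cw_bij : Function.Bijective fun k : Fin 4096 => cw k.1 := by
  rw [Nat.bijective_iff_injective_and_card]
  refine ⟨fun a b e => Fin.ext (enc_inj a.2 b.2 ?_), by rw [Nat.card_fin, card_golayCode]⟩
  have := congrArg Subtype.val e
  rw [coe_cw a.2, coe_cw b.2] at this
  exact vec_injOn (codeList_lt (enc_mem a.2)) (codeList_lt (enc_mem b.2)) this

/-- A linear map of the indices respecting the kinds comes from the code group. -/
theorem exists_of_index {F : ℕ → ℕ} (hlt : ∀ j < 2048, F j < 2048) (hlin : ∀ a < 2048, ∀ b < 2048, F (a ^^^ b) = F a ^^^ F b)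
    (hinj : ∀ j < 2048, F j = 0 → j = 0) (hoct : ∀ j < 2048, j ≠ 0 → oct (F j) = oct j) :
    ∃ σ ∈ M24, ∀ j < 2048, Sim (σ • wset j) (wset (F j)) := by
  let H : ℕ → ℕ := fun k => F (red k) ^^^ top k
  have htop : ∀ k, top k < 4096 := fun k => by unfold top; split_ifs <;> norm_num
  have hH : ∀ k < 4096, H k < 4096 := fun k hk =>
    Nat.xor_lt_two_pow (n := 12) (lt_of_lt_of_le (hlt _ (red_lt hk)) (by norm_num)) (htop k)
  have hHx : ∀ a < 4096, ∀ b < 4096, H (a ^^^ b) = H a ^^^ H b := by
    intro a ha b hb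
    simp only [H, red_xor, top_xor, hlin _ (red_lt ha) _ (red_lt hb)]
    simp [Nat.xor_assoc, Nat.xor_comm, Nat.xor_left_comm]
  let e := Equiv.ofBijective _ cw_bij
  have he : ∀ c, cw (e.symm c).1 = c := fun c => e.apply_symm_apply c
  have he' : ∀ {k} (hk : k < 4096), (e.symm (cw k)).1 = k := fun {k} hk => congrArg Fin.val (e.symm_apply_apply ⟨k, hk⟩)
  let φ : ↥golayCode →+ ↥golayCode := AddMonoidHom.mk' (fun c => cw (H (e.symm c).1)) fun c d => by
    have k1 := (e.symm c).2
    have k2 := (e.symm d).2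
    have hx : (e.symm (c + d)).1 = (e.symm c).1 ^^^ (e.symm d).1 := by
      have h1 := he' (Nat.xor_lt_two_pow (n := 12) k1 k2)
      rwa [cw_xor k1 k2, he, he] at h1
    show cw (H _) = cw (H _) + cw (H _)
    rw [hx, hHx _ k1 _ k2, cw_xor (hH _ k1) (hH _ k2)]
  have hφ : ∀ {k} (hk : k < 4096), φ (cw k) = cw (H k) := fun {k} hk => by
    show cw (H (e.symm (cw k)).1) = _; rw [he' hk]
  have cw_eq : ∀ {a b : ℕ}, a < 4096 → b < 4096 → cw a = cw b → a = b := fun {a b} ha hb h =>
    congrArg Fin.val (cw_bij.1 (a₁ := ⟨a, ha⟩) (a₂ := ⟨b, hb⟩) h)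
  have hφinj : Function.Injective φ := (injective_iff_map_eq_zero φ).2 fun c hc => by
    obtain ⟨⟨k, hk⟩, rfl⟩ := cw_bij.2 c
    have h0 : cw 0 = 0 := Subtype.ext (by rw [coe_cw (by norm_num), index_ok.1.1, vec_zero]; rfl)
    dsimp only at hc ⊢
    rw [hφ hk, ← h0] at hc
    have e0 : F (red k) ^^^ top k = 0 := cw_eq (hH k hk) (by norm_num) hc
    have e1 : F (red k) = top k := Nat.xor_eq_zero_iff.1 e0
    have e2 : top k = 0 := by
      by_contra hne
      have : top k = 4095 := by unfold top at hne ⊢; split_ifs at hne ⊢ <;> [rfl; exact absurd rfl hne]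
      have := hlt _ (red_lt hk)
      omega
    have e3 := hinj _ (red_lt hk) (e1.trans e2)
    rw [← red_top k, e2, e3]
    exact h0
  let x := LinearEquiv.ofBijective (φ.toZModLinearMap 2) ⟨hφinj, Finite.injective_iff_surjective.1 hφinj⟩
  have hxc : ∀ {k} (hk : k < 4096), x (cw k) = cw (H k) := fun {k} hk => hφ hk
  have hone : cw 4095 = Cfsg.Agent.Spor.GolayLin.oneC := Subtype.ext (by
    rw [coe_cw (by norm_num), index_ok.1.2, ← one_eq_vec]; rfl)
  have hsame : ∀ k < 4096, Sim (wset (H k)) (wset (F (red k))) := by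
    intro k hk
    cases h : k.testBit 11
    · left; simp [H, top, h]
    · right; simp [H, top, h, wset_compl]
  have hform : ∀ (σ : Equiv.Perm GolayPt) (k : ℕ), k < 4096 → ∀ m < 4096,
      (((cw m : ↥golayCode) : GolayPt → ZMod 2) = (fun p => (cw k : GolayPt → ZMod 2) (σ.symm p)) ∨
      ((cw m : ↥golayCode) : GolayPt → ZMod 2) = (fun p => (cw k : GolayPt → ZMod 2) (σ.symm p)) + fun _ => 1) ↔
      Sim (wset m) (σ • wset k) := by
    intro σ k hk m hm
    rw [coe_cw hk, coe_cw hm]
    have hcomp : support₂ ((fun p => vec (enc k) (σ.symm p)) + fun _ => 1) = (σ • wset k)ᶜ := by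
      rw [wset, ← support_perm σ (enc k)]
      ext p
      simp only [support₂, Finset.mem_compl, Finset.mem_filter, Finset.mem_univ, true_and, Pi.add_apply, not_not]
      generalize vec (enc k) (σ.symm p) = v
      revert v; decide
    constructor
    · rintro (e | e)
      · exact Or.inl (by rw [wset, ← support_vec, e, support_perm]; rfl)
      · exact Or.inr (by rw [wset, ← support_vec, e, hcomp])
    · rintro (e | e)
      · exact Or.inl (eq_of_support (by rw [support_vec, support_perm]; exact e))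
      · exact Or.inr (eq_of_support (by rw [support_vec, hcomp]; exact e))
  obtain ⟨σ, hσ, hall⟩ := Cfsg.Agent.Spor.GolayLin.exists_perm x (by
      rw [← hone, hxc (by norm_num)]
      congr 1
      simp only [H]
      rw [show red 4095 = 0 by decide +kernel, show top 4095 = 4095 by decide +kernel]
      have := hlin 0 (by norm_num) 0 (by norm_num)
      rw [Nat.xor_self, Nat.xor_self] at this
      rw [this, Nat.zero_xor]) fun c => by
    obtain ⟨⟨k, hk⟩, rfl⟩ := cw_bij.2 c
    have hF0 : F 0 = 0 := by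
      have := hlin 0 (by norm_num) 0 (by norm_num)
      simpa using this
    obtain ⟨σ, hσ, hs⟩ := same_class (red_lt hk) (hlt _ (red_lt hk))
      ⟨fun e => by rw [e, hF0], fun e => hinj _ (red_lt hk) e⟩ (by
        by_cases h0 : red k = 0
        · rw [h0, hF0]
        · exact (hoct _ (red_lt hk) h0).symm)
    refine ⟨σ, hσ, ?_⟩
    dsimp only
    rw [hxc hk]
    exact (hform σ k hk _ (hH k hk)).2 ((hsame k hk).trans (hs.symm.trans ((Sim.symm wset_red).smul σ)))
  refine ⟨σ, hσ, fun j hj => ?_⟩
  have hj' : j < 4096 := by omega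
  have h1 := (hform σ j hj' _ (hH j hj')).1 (by rw [← hxc hj']; exact hall (cw j))
  have h2 := h1.symm.trans (hsame j hj')
  rwa [red_low hj] at h2

end Cfsg.Agent.Invol.Co1.Local
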