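import Cfsg.Agent.Lib.Invol.Co1.Local.Trans
import Cfsg.Agent.Lib.Invol.Co1.Local.PsiOk
import Cfsg.Agent.Lib.Invol.Co1.Local.Words

/-!
# The quotient of the normalizer is the Mathieu group of degree 24
-/

set_option autoImplicit false
set_option maxRecDepth 100000
set_option linter.unusedSectionVars false

namespace Cfsg.Agent.Invol.Co1.Local

open Cfsg Cfsg.Agent.Classical.BinCoc Cfsg.Agent.Invol.Big Cfsg.Agent.Invol.Big.Code
open scoped Pointwise

theorem chain_len : (List.range 4).map (fun i => (chain.getD i []).length) = [15, 14, 12, 8] := by decide +kernel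

variable {G : Type*} [Group G] [Finite G] {z : G} {Q : Subgroup G} {cd : G → ℕ} {g : G}

namespace Setup

variable {P : Pr z Q cd g} {f : ℕ → G} {x : G} {p : ℕ}

theorem el_one (S : Setup P f x p) : elN f 11 1 = z := by
  have := elN_pow (f := f) (k := 11) (j := 0) (by norm_num)
  rwa [pow_zero, S.g0] at this

theorem mem_A_z (S : Setup P f x p) : z ∈ Asub P := S.el_one ▸ S.el_mem 1

theorem Q_le (_S : Setup P f x p) {y : G} (hy : y ∈ Q) : y ∈ Subgroup.normalizer (Asub P : Set G) := by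
  have hz := P.code.ext.central y hy
  exact norm_of_act P hz fun v hv => by
    rwa [(P.code.mem_iff (comm_inv hz)).1 (inv_mem hy) v (show v < 2 ^ K8.n by rw [K8_n]; omega)]

/-- A tuple of the chain. -/
theorem exists_level (S : Setup P f x p) : ∀ m i, i + m = 4 → ∃ T : Finset G,
    T.card = (((List.range 4).map fun j => (chain.getD j []).length).drop i).prod ∧
    (∀ c ∈ T, c ∈ Subgroup.normalizer (Asub P : Set G) ∧ c * z = z * c ∧ ∀ j < i, P.code.act c (2 ^ j) = 2 ^ j) ∧
    ∀ c ∈ T, ∀ c' ∈ T, (∀ j < 4, P.code.act c (2 ^ j) = P.code.act c' (2 ^ j)) → c = c' := by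
  classical
  intro m
  induction m with
  | zero =>
    intro i hi
    obtain rfl : i = 4 := by omega
    refine ⟨{1}, by rw [List.drop_eq_nil_of_le (by simp)]; simp, fun c hc => ?_, fun c hc c' hc' _ => by simp_all⟩
    rw [Finset.mem_singleton] at hc
    subst hc
    exact ⟨one_mem _, by simp, fun j hj =>
      P.code.act_one (show 2 ^ j < 2 ^ K8.n by rw [K8_n]; interval_cases j <;> norm_num)⟩
  | succ m ih =>
    intro i hi
    obtain ⟨T, hT, hTm, hTd⟩ := ih (i + 1) (by omega)
    have hi4 : i < 4 := by omega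
    obtain ⟨-, hok, hnd, -⟩ := chain_ok
    simp only [List.all_eq_true, List.mem_range, Bool.and_eq_true, beq_iff_eq, decide_eq_true_eq] at hok hnd
    obtain ⟨hnd, -⟩ := hnd i hi4
    set L := chain.getD i [] with hL
    have hlift : ∀ t : Fin L.length, ∃ c ∈ Subgroup.normalizer (Asub P : Set G), c * z = z * c ∧
        (∀ j < i, P.code.act c (2 ^ j) = 2 ^ j) ∧ P.code.act c (2 ^ i) = (L.get t).1 := by
      intro t
      obtain ⟨⟨⟨hw, hfix⟩, himg⟩, hU⟩ := hok i hi4 _ (List.get_mem L t)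
      obtain ⟨c, hc, hcz, hca⟩ := S.exists_norm_lift hw fun v hv => (hU v hv).1
      have h256 : ∀ j ≤ i, 2 ^ j < 256 := fun j hj =>
        lt_of_lt_of_eq (Nat.pow_lt_pow_right (by norm_num) (show j < 8 by omega)) (by norm_num)
      exact ⟨c, hc, hcz, fun j hj => (hca _ (h256 j hj.le)).trans (hfix j hj),
        (hca _ (h256 i le_rfl)).trans himg⟩
    choose c hcN hcz hcfix hcimg using hlift
    have h256 : ∀ j < 4, 2 ^ j < 2 ^ K8.n := fun j hj => by rw [K8_n]; interval_cases j <;> norm_num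
    let φ : Fin L.length × T → G := fun e => c e.1 * e.2.1
    have hTi : ∀ d : T, P.code.act d.1 (2 ^ i) = 2 ^ i := fun d => (hTm _ d.2).2.2 i (by omega)
    have hact : ∀ e j, j < 4 → P.code.act (φ e) (2 ^ j) = P.code.act (c e.1) (P.code.act e.2.1 (2 ^ j)) :=
      fun e j hj => P.code.act_mul (hcz _) (hTm _ e.2.2).2.1 (h256 j hj)
    have hinj : ∀ e e', (∀ j < 4, P.code.act (φ e) (2 ^ j) = P.code.act (φ e') (2 ^ j)) → e = e' := by
      intro e e' he
      have h1 := he i hi4
      rw [hact e i hi4, hact e' i hi4, hTi, hTi, hcimg, hcimg] at h1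
      have ht : e.1 = e'.1 := by
        apply Fin.ext
        refine (List.Nodup.getElem_inj_iff hnd (hi := by simp) (hj := by simp)).1 ?_
        simpa using h1
      have h2 : e.2 = e'.2 := Subtype.ext (hTd _ e.2.2 _ e'.2.2 fun j hj => by
        have := congrArg (P.code.act (c e.1)⁻¹) (he j hj)
        rwa [hact e j hj, hact e' j hj, ← ht, P.code.act_inv_left (hcz _) (P.code.act_lt (hTm _ e.2.2).2.1 _),
          P.code.act_inv_left (hcz _) (P.code.act_lt (hTm _ e'.2.2).2.1 _)] at this)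
      exact Prod.ext ht h2
    refine ⟨Finset.univ.image φ, ?_, fun d hd => ?_, fun d hd d' hd' he => ?_⟩
    · rw [Finset.card_image_of_injective _ fun e e' h => hinj e e' fun j _ => by rw [h], Finset.card_univ,
        Fintype.card_prod, Fintype.card_coe, Fintype.card_fin, hT,
        List.drop_eq_getElem_cons (i := i) (by simpa using hi4), List.prod_cons, List.getElem_map, List.getElem_range, hL]
    · obtain ⟨e, -, rfl⟩ := Finset.mem_image.1 hd
      obtain ⟨k1, k2, k3⟩ := hTm _ e.2.2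
      refine ⟨mul_mem (hcN _) k1, comm_mul (hcz _) k2, fun j hj => ?_⟩
      rw [hact e j (by omega), k3 j (by omega), hcfix _ j hj]
    · obtain ⟨e, -, rfl⟩ := Finset.mem_image.1 hd
      obtain ⟨e', -, rfl⟩ := Finset.mem_image.1 hd'
      rw [hinj e e' he]

/-- A lower bound for the normalizer. -/
theorem card_norm_ge {e : ℕ × List ℕ × List ℕ} (S : Setup P f x e.1) (he : e ∈ psis)
    (hcard : Nat.card (Subgroup.centralizer ({z} : Set G)) = 42525 * (2 ^ 12 * Nat.card Q))
    (h512 : Nat.card Q = 512) :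
    2 ^ 11 * 244823040 ≤ Nat.card (Subgroup.normalizer (Asub P : Set G)) := by
  classical
  have h := P.code
  have hp := psi_ok
  simp only [List.all_eq_true, List.mem_range, Bool.and_eq_true, decide_eq_true_eq, beq_iff_eq] at hp
  have hp := hp e he
  set L := (List.range 2048).filter oct with hL
  have hLlen : L.length = 759 := index_ok.2.2.2.2.2.1
  have hmem' : ∀ y ∈ L, y < 2048 ∧ oct y = true := by simp [hL]
  have hmem : ∀ t : Fin L.length, L.get t < 2048 ∧ oct (L.get t) = true := fun t => hmem' _ (List.get_mem L t)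
  have hn : ∀ t : Fin L.length, ∃ n ∈ Subgroup.normalizer (Asub P : Set G),
      n * z * n⁻¹ = elN f 11 (psi e.2.2 (L.get t)) := by
    intro t
    obtain ⟨h1, h2⟩ := hmem t
    obtain ⟨⟨⟨-, k1⟩, -⟩, k3⟩ := hp _ h1
    have hne : psi e.2.2 (L.get t) ≠ 0 := fun e0 => by
      rw [e0] at k3
      have hz := index_ok.2.2.2.2.1
      simp only [List.all_eq_true, List.mem_range, Bool.or_eq_true, Bool.and_eq_true, bne_iff_ne,
        Bool.not_eq_true'] at hz
      have := ((hz _ h1).resolve_left (by rw [h2]; simp)).1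
      exact this (k3.symm.trans (by simp [psi, linN]))
    exact S.reach he hcard k1 hne ((S.conj_iff he hcard k1 hne).2 (by rw [k3]; exact h2))
  choose n hnN hnz using hn
  obtain ⟨T, hT, hTm, hTd⟩ := S.exists_level 4 0 rfl
  let φ : Fin L.length × T × Fin 64 × Q → Subgroup.normalizer (Asub P : Set G) := fun t =>
    ⟨n t.1 * (t.2.1.1 * (elN f 11 (32 * t.2.2.1.1) * t.2.2.2.1)),
      mul_mem (hnN _) (mul_mem (hTm _ t.2.1.2).1
        (mul_mem (Subgroup.le_normalizer (S.el_mem _)) (S.Q_le t.2.2.2.2)))⟩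
  have hinj : Function.Injective φ := by
    rintro ⟨t, d, m, q⟩ ⟨t', d', m', q'⟩ heq
    replace heq : n t * (d.1 * (elN f 11 (32 * m.1) * q.1)) = n t' * (d'.1 * (elN f 11 (32 * m'.1) * q'.1)) :=
      congrArg Subtype.val heq
    have hcz : ∀ (d : T) (m : Fin 64) (q : Q), d.1 * (elN f 11 (32 * m.1) * q.1) * z =
        z * (d.1 * (elN f 11 (32 * m.1) * q.1)) := fun d m q =>
      comm_mul (hTm _ d.2).2.1 (comm_mul (S.el_act _).1 (h.ext.central _ q.2))
    have hz' : ∀ (t : Fin L.length) (y : G), y * z = z * y → (n t * y) * z * (n t * y)⁻¹ = elN f 11 (psi e.2.2 (L.get t)) := by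
      intro t y hy
      rw [← hnz t, show n t * y * z * (n t * y)⁻¹ = n t * (y * z * y⁻¹) * (n t)⁻¹ by group, hy, mul_inv_cancel_right]
    obtain rfl : t = t' := by
      have h1 := hz' t _ (hcz d m q)
      rw [heq, hz' t' _ (hcz d' m' q')] at h1
      have h2 := S.inj S.fam (hp _ (hmem t').1).1.1.2 (hp _ (hmem t).1).1.1.2 h1
      have h3 := congrArg (psi e.2.1) h2
      rw [(hp _ (hmem t').1).2, (hp _ (hmem t).1).2] at h3
      exact ((List.nodup_range.filter oct).get_inj_iff.1 h3).symm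
    replace heq := mul_left_cancel heq
    have htriv : ∀ (m : Fin 64) (q : Q) (v : ℕ), v < 256 →
        h.act (elN f 11 (32 * m.1) * q.1) v = MgN 11 (32 * m.1) v := fun m q v hv => by
      rw [h.act_mul (S.el_act _).1 (h.ext.central _ q.2) (show v < 2 ^ K8.n from hv),
        (h.mem_iff (h.ext.central _ q.2)).1 q.2 v hv, (S.el_act _).2 v hv]
    have hU : ∀ (m : Fin 64) (v : ℕ), v < 16 → h.act (elN f 11 (32 * m.1)) v = v := fun m v hv => by
      have hv' : v < 2 ^ K8.n := by rw [K8_n]; omega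
      have := Subgroup.mem_centralizer_iff.1 (S.el_mem (32 * m.1)) _ ⟨h.rep_mem v, by rw [h.cd_rep hv']; exact hv⟩
      show cd (_ * h.rep v * _) = v
      rw [← this, mul_inv_cancel_right, h.cd_rep hv']
    obtain rfl : d = d' := Subtype.ext (hTd _ d.2 _ d'.2 fun j hj => by
      have h16 : 2 ^ j < 16 := by interval_cases j <;> norm_num
      have h256 : 2 ^ j < 2 ^ K8.n := by rw [K8_n]; omega
      have e1 := congrArg (fun y => h.act y (2 ^ j)) heq
      simp only [h.act_mul (hTm _ d.2).2.1 (comm_mul (S.el_act _).1 (h.ext.central _ q.2)) h256,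
        h.act_mul (hTm _ d'.2).2.1 (comm_mul (S.el_act _).1 (h.ext.central _ q'.2)) h256,
        htriv _ _ _ (show 2 ^ j < 256 by omega), ← (S.el_act _).2 (2 ^ j) (show 2 ^ j < 256 by omega),
        hU _ _ h16] at e1
      exact e1)
    replace heq := mul_left_cancel heq
    obtain rfl : m = m' := by
      have hm : ∀ k : Fin 64, 32 * k.1 < 2048 := fun k => by omega
      have e1 : elN f 11 ((32 * m.1) ^^^ (32 * m'.1)) = q'.1 * q.1⁻¹ := by
        have hsq : elN f 11 (32 * m'.1) * elN f 11 (32 * m'.1) = 1 := by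
          rw [← S.xor S.fam, Nat.xor_self, elN_zero]
        rw [Nat.xor_comm, S.xor S.fam, eq_mul_inv_iff_mul_eq, mul_assoc, heq, ← mul_assoc, hsq, one_mul]
      have hq : q'.1 * q.1⁻¹ ∈ Q := mul_mem q'.2 (inv_mem q.2)
      have hlt : (32 * m.1) ^^^ (32 * m'.1) < 2048 := Nat.xor_lt_two_pow (n := 11) (hm m) (hm m')
      have hbt : bt (MgN 11 ((32 * m.1) ^^^ (32 * m'.1))) = bt id := List.map_congr_left fun i hi => by
        have h256 : 2 ^ i < 256 :=
          lt_of_lt_of_eq (Nat.pow_lt_pow_right (by norm_num) (List.mem_range.1 hi)) (by norm_num)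
        rw [← (S.el_act _).2 _ h256, e1]
        exact (h.mem_iff (h.ext.central _ hq)).1 hq _ h256
      have hfa := faith_ok
      simp only [List.all_eq_true, List.mem_range, Bool.or_eq_true, Bool.not_eq_true', beq_eq_false_iff_ne,
        decide_eq_true_eq] at hfa
      have hlt32 := (hfa _ hlt).resolve_left fun e => e hbt
      exact Fin.ext ((show ∀ a < 64, ∀ b < 64, (32 * a) ^^^ (32 * b) < 32 → a = b by decide +kernel)
        _ m.2 _ m'.2 hlt32)
    rw [Subtype.ext (mul_left_cancel heq)]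
  have := Nat.card_le_card_of_injective φ hinj
  rw [Nat.card_prod, Nat.card_prod, Nat.card_prod, Nat.card_fin, Nat.card_fin, h512, Nat.card_eq_finsetCard, hT,
    chain_len, hLlen] at this
  refine le_trans (by norm_num) this

/-- The index correspondence of an element of the normalizer. -/
def Rel {e : ℕ × List ℕ × List ℕ} (_S : Setup P f x e.1) (n : G) (σ : Equiv.Perm GolayPt) : Prop :=
  ∀ a < 2048, ∀ b < 2048, n * elN f 11 a * n⁻¹ = elN f 11 b →
    Sim (σ • wset (psi e.2.1 a)) (wset (psi e.2.1 b))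

theorem exists_img (S : Setup P f x p) {n : G} (hn : n ∈ Subgroup.normalizer (Asub P : Set G)) (a : ℕ) :
    ∃ b < 2048, n * elN f 11 a * n⁻¹ = elN f 11 b := by
  obtain ⟨b, hb, hbe⟩ := S.surj S.fam ((Subgroup.mem_normalizer_iff.1 hn _).1 (S.el_mem a))
  exact ⟨b, hb, hbe.symm⟩

theorem rel_exists {e : ℕ × List ℕ × List ℕ} (S : Setup P f x e.1) (he : e ∈ psis)
    (hcard : Nat.card (Subgroup.centralizer ({z} : Set G)) = 42525 * (2 ^ 12 * Nat.card Q))
    {n : G} (hn : n ∈ Subgroup.normalizer (Asub P : Set G)) : ∃ σ ∈ M24, Rel S n σ := by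
  classical
  choose img himg hne using S.exists_img hn
  have hp := psi_ok
  simp only [List.all_eq_true, List.mem_range, Bool.and_eq_true, decide_eq_true_eq, beq_iff_eq] at hp
  have hp := hp e he
  let F : ℕ → ℕ := fun j => psi e.2.1 (img (psi e.2.2 j))
  have hinj := @Frame.inj _ _ _ _ _ _ _ _ _ S.toFrame S.fam
  have himgx : ∀ a b, img (a ^^^ b) = img a ^^^ img b := fun a b => hinj (himg _)
    (Nat.xor_lt_two_pow (n := 11) (himg a) (himg b)) (by
      rw [S.xor S.fam (img a), ← hne, ← hne, ← hne, S.xor S.fam, conj_mul])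
  have hlt : ∀ j < 2048, F j < 2048 := fun j hj => (hp _ (himg _)).1.1.1
  obtain ⟨σ, hσ, hs⟩ := exists_of_index (F := F) hlt (fun a _ b _ => by
      show psi _ _ = psi _ _ ^^^ psi _ _
      rw [show psi e.2.2 (a ^^^ b) = psi e.2.2 a ^^^ psi e.2.2 b from linN_xor .., himgx]
      exact linN_xor ..)
    (fun j hj e0 => by
      have h1 := congrArg (psi e.2.2) e0
      simp only [F] at h1
      rw [(hp _ (himg _)).1.2, show psi e.2.2 0 = 0 by simp [psi, linN]] at h1
      have h2 := hne (psi e.2.2 j)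
      rw [h1, elN_zero, conj_eq_one_iff] at h2
      have h3 := hinj (hp j hj).1.1.2 (by norm_num) (h2.trans elN_zero.symm)
      rw [← (hp j hj).2, h3]
      simp [psi, linN])
    (fun j hj h0 => by
      have ha := (hp j hj).1.1.2
      have ha0 : psi e.2.2 j ≠ 0 := fun e0 => h0 (by rw [← (hp j hj).2, e0]; simp [psi, linN])
      have hb0 : img (psi e.2.2 j) ≠ 0 := fun e0 => ha0 (by
        have h2 := hne (psi e.2.2 j)
        rw [e0, elN_zero, conj_eq_one_iff] at h2
        exact hinj ha (by norm_num) (h2.trans elN_zero.symm))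
      have k1 := S.conj_iff he hcard ha ha0
      have k2 := S.conj_iff he hcard (himg _) hb0
      rw [(hp j hj).2, S.isConj_el (hne _)] at k1
      exact Bool.eq_iff_iff.2 (k2.symm.trans k1))
  refine ⟨σ, hσ, fun a ha b hb hab => ?_⟩
  have h1 := hs _ (hp a ha).1.1.1
  simp only [F] at h1
  rw [(hp a ha).1.2] at h1
  rwa [hinj hb (himg a) (hab.symm.trans (hne a))]

theorem rel_unique {e : ℕ × List ℕ × List ℕ} (S : Setup P f x e.1) (he : e ∈ psis) {n : G}
    (hn : n ∈ Subgroup.normalizer (Asub P : Set G)) {σ τ : Equiv.Perm GolayPt} (h1 : Rel S n σ) (h2 : Rel S n τ) :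
    σ = τ := by
  have hp := psi_ok
  simp only [List.all_eq_true, List.mem_range, Bool.and_eq_true, decide_eq_true_eq, beq_iff_eq] at hp
  have hp := hp e he
  refine perm_eq fun j hj => ?_
  obtain ⟨b, hb, hbe⟩ := S.exists_img hn (psi e.2.2 j)
  have k1 := h1 _ (hp j hj).1.1.2 b hb hbe
  have k2 := h2 _ (hp j hj).1.1.2 b hb hbe
  rw [(hp j hj).2] at k1 k2
  exact k1.trans k2.symm

theorem rel_mul {e : ℕ × List ℕ × List ℕ} (S : Setup P f x e.1) {n m : G}
    (hm : m ∈ Subgroup.normalizer (Asub P : Set G)) {σ τ : Equiv.Perm GolayPt} (h1 : Rel S n σ) (h2 : Rel S m τ) :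
    Rel S (n * m) (σ * τ) := by
  intro a ha b hb hab
  obtain ⟨c, hc, hce⟩ := S.exists_img hm a
  have hcb : n * elN f 11 c * n⁻¹ = elN f 11 b := by rw [← hce, ← hab]; group
  rw [mul_smul]
  exact ((h2 a ha c hc hce).smul σ).trans (h1 c hc b hb hcb)

/-- The map to the code group. -/
theorem exists_hom {e : ℕ × List ℕ × List ℕ} (S : Setup P f x e.1) (he : e ∈ psis)
    (hcard : Nat.card (Subgroup.centralizer ({z} : Set G)) = 42525 * (2 ^ 12 * Nat.card Q))
    (h512 : Nat.card Q = 512) :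
    ∃ φ : ↥(Subgroup.normalizer (Asub P : Set G)) →* ↥M24, φ.ker = (Asub P).subgroupOf _ ∧
      Function.Surjective φ ∧ ∀ n : ↥(Subgroup.normalizer (Asub P : Set G)), Rel S (n : G) (φ n : Equiv.Perm GolayPt) := by
  classical
  choose σ hσ hrel using fun n : ↥(Subgroup.normalizer (Asub P : Set G)) => S.rel_exists he hcard n.2
  let φ : ↥(Subgroup.normalizer (Asub P : Set G)) →* ↥M24 := MonoidHom.mk' (fun n => ⟨σ n, hσ n⟩) fun n m =>
    Subtype.ext (S.rel_unique he (n * m).2 (hrel _) (S.rel_mul m.2 (hrel n) (hrel m)))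
  have hp := psi_ok
  simp only [List.all_eq_true, List.mem_range, Bool.and_eq_true, decide_eq_true_eq, beq_iff_eq] at hp
  have hp := hp e he
  have hker : φ.ker = (Asub P).subgroupOf _ := by
    ext n
    rw [MonoidHom.mem_ker, Subgroup.mem_subgroupOf]
    constructor
    · intro h1
      have h1' : σ n = 1 := congrArg Subtype.val h1
      refine Subgroup.mem_centralizer_iff.2 fun y hy => ?_
      have hyA : y ∈ Asub P := by
        have hlow := low_ok
        simp only [List.all_eq_true, Bool.and_eq_true, List.mem_range, Bool.not_eq_true', decide_eq_true_eq] at hlow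
        exact Subgroup.mem_centralizer_iff.2 fun w hw => (P.code.commute_iff hw.1 hy.1).2 ((hlow _ hw.2).2 _ hy.2)
      obtain ⟨a, ha, rfl⟩ := S.surj S.fam hyA
      obtain ⟨b, hb, hbe⟩ := S.exists_img n.2 a
      have h3 := hrel n a ha b hb hbe
      rw [h1', one_smul] at h3
      have h4 := congrArg (psi e.2.2) (sim_index (hp a ha).1.1.1 (hp b hb).1.1.1 h3)
      rw [(hp a ha).1.2, (hp b hb).1.2] at h4
      rw [← h4] at hbe
      exact (mul_inv_eq_iff_eq_mul.1 hbe).symm
    · intro hnA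
      refine Subtype.ext (S.rel_unique he n.2 (hrel n) fun a ha b hb hab => ?_)
      rw [show (n : G) * elN f 11 a * (n : G)⁻¹ = elN f 11 a by
        rw [S.comm_A S.fam hnA (S.el_mem a), mul_inv_cancel_right]] at hab
      rw [S.inj S.fam ha hb hab]
      exact Or.inl (one_smul _ _)
  refine ⟨φ, hker, ?_, hrel⟩
  have h1 := Subgroup.card_eq_card_quotient_mul_card_subgroup φ.ker
  rw [Nat.card_congr (QuotientGroup.quotientKerEquivRange φ).toEquiv, hker,
    Nat.card_congr (Subgroup.subgroupOfEquivOfLe (Subgroup.le_normalizer (H := Asub P))).toEquiv, S.card S.fam] at h1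
  have h2 := S.card_norm_ge he hcard h512
  rw [h1] at h2
  have h3 : Nat.card M24 = 244823040 := Spor.Golay.card_M24
  rw [← MonoidHom.range_eq_top]
  refine Subgroup.eq_top_of_le_card _ ?_
  rw [h3]
  omega

/-- Two orbits. -/
theorem exists_orbits {e : ℕ × List ℕ × List ℕ} (S : Setup P f x e.1) (he : e ∈ psis)
    (hcard : Nat.card (Subgroup.centralizer ({z} : Set G)) = 42525 * (2 ^ 12 * Nat.card Q))
    (h512 : Nat.card Q = 512) :
    ∃ a ∈ Asub P, ∃ b ∈ Asub P, a ≠ 1 ∧ b ≠ 1 ∧
      (∀ n ∈ Subgroup.normalizer (Asub P : Set G), n * a * n⁻¹ ≠ b) ∧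
      ∀ c ∈ Asub P, c ≠ 1 → ∃ n ∈ Subgroup.normalizer (Asub P : Set G), n * c * n⁻¹ = a ∨ n * c * n⁻¹ = b := by
  obtain ⟨φ, -, hsurj, hrel⟩ := S.exists_hom he hcard h512
  have hp := psi_ok
  simp only [List.all_eq_true, List.mem_range, Bool.and_eq_true, decide_eq_true_eq, beq_iff_eq] at hp
  have hp := hp e he
  obtain ⟨j, hj, hjo⟩ := List.any_eq_true.1 index_ok.2.2.2.2.2.2
  rw [List.mem_range] at hj
  rw [Bool.and_eq_true, bne_iff_ne, Bool.not_eq_true'] at hjo
  obtain ⟨⟨⟨-, hk⟩, -⟩, hk'⟩ := hp j hj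
  have hk0 : psi e.2.2 j ≠ 0 := fun e0 => hjo.1 (by rw [← hk', e0]; simp [psi, linN])
  have hne : ∀ {k}, k < 2048 → k ≠ 0 → elN f 11 k ≠ 1 := fun {k} hk h0 e1 =>
    h0 (S.inj S.fam hk (by norm_num) (e1.trans elN_zero.symm))
  refine ⟨z, S.mem_A_z, _, S.el_mem (psi e.2.2 j), by rw [← S.el_one]; exact hne (by norm_num) one_ne_zero,
    hne hk hk0, fun n _ en => ?_, fun c hc hc1 => ?_⟩
  · have := (S.conj_iff he hcard hk hk0).1 (isConj_iff.2 ⟨n, en⟩)
    rw [hk', hjo.2] at this
    exact absurd this (by simp)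
  obtain ⟨a, ha, rfl⟩ := S.surj S.fam hc
  have ha0 : a ≠ 0 := fun e0 => hc1 (by rw [e0, elN_zero])
  by_cases hz : IsConj z (elN f 11 a)
  · obtain ⟨n, hn, hne'⟩ := S.reach he hcard ha ha0 hz
    exact ⟨n⁻¹, inv_mem hn, Or.inl (by rw [← hne']; group)⟩
  have hoa : oct (psi e.2.1 a) = false := Bool.eq_false_iff.2 fun h => hz ((S.conj_iff he hcard ha ha0).2 h)
  have hpa0 : psi e.2.1 a ≠ 0 := fun e0 => ha0 (by rw [← (hp a ha).1.2, e0]; simp [psi, linN])
  obtain ⟨σ, hσ, hs⟩ := same_class (hp a ha).1.1.1 hj ⟨fun e0 => absurd e0 hpa0, fun e0 => absurd e0 hjo.1⟩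
    (hoa.trans hjo.2.symm)
  obtain ⟨n, hn⟩ := hsurj ⟨σ, hσ⟩
  obtain ⟨b, hb, hbe⟩ := S.exists_img n.2 a
  have h1 := hrel n a ha b hb hbe
  rw [hn] at h1
  have h2 := sim_index (hp b hb).1.1.1 hj (h1.symm.trans hs)
  refine ⟨n, n.2, Or.inr ?_⟩
  rw [hbe, ← h2, (hp b hb).1.2]

end Setup

end Cfsg.Agent.Invol.Co1.Local
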