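import Cfsg.Agent.Lib.Invol.Co1.Local.Orbit

/-!
# One orbit on the conjugates of the centre in the subgroup
-/

set_option autoImplicit false
set_option linter.unusedSectionVars false

namespace Cfsg.Agent.Invol.Co1.Local

open Cfsg.Agent.Classical.BinCoc Cfsg.Agent.Invol.Big Cfsg.Agent.Invol.Big.Code

theorem swords_lt : ∀ w ∈ swords, ∀ o ∈ w, o < 5 := by decide

theorem wits_lt : (∀ e ∈ wits, (∀ o ∈ e.1, o < 5) ∧ e.2 < 2048 ∧ e.2 ≠ 0) := by decide

variable {G : Type*} [Group G] [Finite G] {z : G} {Q : Subgroup G} {cd : G → ℕ} {g : G}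

/-- An element of the centralizer preserving the singular subspace normalizes the subgroup. -/
theorem norm_of_act (P : Pr z Q cd g) {c : G} (hc : c * z = z * c) (hU : ∀ v < 16, P.code.act c⁻¹ v < 16) :
    c ∈ Subgroup.normalizer (Asub P : Set G) := by
  refine mem_norm fun a ha => Subgroup.mem_centralizer_iff.2 fun e he => ?_
  have he' : c⁻¹ * e * c ∈ Esub P := by
    have h1 := P.code.ext.norm c⁻¹ (comm_inv hc) e he.1
    rw [inv_inv] at h1
    refine ⟨h1, ?_⟩
    have := hU _ he.2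
    rwa [P.code.act_cd (comm_inv hc) he.1, inv_inv] at this
  have := Subgroup.mem_centralizer_iff.1 ha _ he'
  calc e * (c * a * c⁻¹) = c * ((c⁻¹ * e * c) * a) * c⁻¹ := by group
    _ = c * (a * (c⁻¹ * e * c)) * c⁻¹ := by rw [this]
    _ = _ := by group

namespace Setup

variable {P : Pr z Q cd g} {f : ℕ → G} {x : G} {p : ℕ}

/-- A lift of a word preserving the singular subspace. -/
theorem exists_norm_lift (_S : Setup P f x p) {k : List ℕ} (hk : Wok K8 k = true)
    (hU : ∀ v < 16, wd K8 k.reverse v < 16) :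
    ∃ c ∈ Subgroup.normalizer (Asub P : Set G), P.code.Acts c (wd K8 k) := by
  obtain ⟨c, hc, hca⟩ := P.code.exists_lift hk
  exact ⟨c, norm_of_act P hc fun v hv => by
    rw [P.code.act_inv_word hk hc hca (show v < 2 ^ K8.n by rw [K8_n]; omega)]; exact hU v hv, hc, hca⟩

theorem isConj_el (S : Setup P f x p) {a b : ℕ} {n : G} (e : n * elN f 11 a * n⁻¹ = elN f 11 b) :
    IsConj z (elN f 11 a) ↔ IsConj z (elN f 11 b) := by
  have _ := S.g0
  exact ⟨fun h => h.trans (isConj_iff.2 ⟨n, e⟩), fun h => h.trans (isConj_iff.2 ⟨n, e⟩).symm⟩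

theorem wmap_ne (S : Setup P f x p) {w : List ℕ} (hw : ∀ o ∈ w, o < 5) {a : ℕ} (ha : a < 2048) (h0 : a ≠ 0) :
    wmap p w a ≠ 0 := by
  obtain ⟨n, -, hn⟩ := S.exists_opw hw
  intro e
  have := hn a
  rw [e, elN_zero, conj_eq_one_iff] at this
  exact h0 (S.inj S.fam ha (by norm_num) (this.trans elN_zero.symm))

/-- The parameters are among the remaining eight. -/
theorem exists_good (S : Setup P f x p) (hp : p < 4096)
    (hcard : Nat.card (Subgroup.centralizer ({z} : Set G)) = 42525 * (2 ^ 12 * Nat.card Q)) :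
    ∃ e ∈ psis, e.1 = p := by
  have h := bad_ok hp
  simp only [badOk, Bool.or_eq_true, List.any_eq_true, Bool.and_eq_true, beq_iff_eq, List.contains_iff_mem,
    List.mem_map] at h
  rcases h with h | ⟨e, he, h1, h2⟩
  · exact h
  obtain ⟨hw, ha, h0⟩ := wits_lt e he
  obtain ⟨n, -, hn⟩ := S.exists_opw hw
  have k1 := (S.sound hcard ha h0 h1).2 rfl
  have k2 := S.sound hcard (wmap_lt hw ha) (S.wmap_ne hw ha h0) h2
  exact absurd (k2.1 ((S.isConj_el (hn e.2)).1 k1)) (by simp)

/-- The conjugates of `z` in the coordinates. -/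
theorem conj_iff {e : ℕ × List ℕ × List ℕ} (S : Setup P f x e.1) (he : e ∈ psis)
    (hcard : Nat.card (Subgroup.centralizer ({z} : Set G)) = 42525 * (2 ^ 12 * Nat.card Q))
    {a : ℕ} (ha : a < 2048) (h0 : a ≠ 0) : IsConj z (elN f 11 a) ↔ oct (psi e.2.1 a) = true := by
  obtain ⟨w, hw, hc⟩ := good_ok he ha h0
  obtain ⟨n, -, hn⟩ := S.exists_opw (swords_lt w hw)
  rw [S.isConj_el (hn a)]
  exact S.sound hcard (wmap_lt (swords_lt w hw) ha) (S.wmap_ne (swords_lt w hw) ha h0) hc

/-- The normalizer is transitive on the conjugates of `z`. -/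
theorem reach {e : ℕ × List ℕ × List ℕ} (S : Setup P f x e.1) (he : e ∈ psis)
    (hcard : Nat.card (Subgroup.centralizer ({z} : Set G)) = 42525 * (2 ^ 12 * Nat.card Q))
    {a : ℕ} (ha : a < 2048) (h0 : a ≠ 0) (hz : IsConj z (elN f 11 a)) :
    ∃ n ∈ Subgroup.normalizer (Asub P : Set G), n * z * n⁻¹ = elN f 11 a := by
  have h := P.code
  set N := Subgroup.normalizer (Asub P : Set G)
  let R : ℕ → Prop := fun b => ∃ n ∈ N, n * z * n⁻¹ = elN f 11 b
  have hback : ∀ {m : G} {b c : ℕ}, m ∈ N → m * elN f 11 b * m⁻¹ = elN f 11 c → R c → R b := by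
    rintro m b c hm e ⟨n, hn, hne⟩
    refine ⟨m⁻¹ * n, mul_mem (inv_mem hm) hn, ?_⟩
    rw [show m⁻¹ * n * z * (m⁻¹ * n)⁻¹ = m⁻¹ * (n * z * n⁻¹) * m by group, hne, ← e]; group
  have hz1 : elN f 11 1 = z := by
    have := elN_pow (f := f) (k := 11) (j := 0) (by norm_num)
    rwa [pow_zero, S.g0] at this
  have R1 : R 1 := ⟨1, one_mem _, by rw [hz1]; group⟩
  have hX : ∀ b, R b → R (fn e.1 0 b) := fun b ⟨n, hn, hne⟩ => ⟨op P x 0 * n, mul_mem (S.op_mem (by norm_num)) hn, by
    rw [← S.op_conj (by norm_num), ← hne]; group⟩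
  have hY : ∀ b, R b → R (fn e.1 1 b) := fun b ⟨n, hn, hne⟩ => ⟨op P x 1 * n, mul_mem (S.op_mem (by norm_num)) hn, by
    rw [← S.op_conj (by norm_num), ← hne]; group⟩
  have e3 : fn e.1 0 1 = 3 := by simp +decide [fn, linN, Xi]
  have e2 : fn e.1 1 3 = 2 := by simp +decide [fn, linN, Di]
  have R3 : R 3 := e3 ▸ hX 1 R1
  have R2 : R 2 := e2 ▸ hY 3 R3
  -- the elements in `Q`
  have RE : ∀ b < 32, b ≠ 0 → R b := by
    intro b hb hb0
    rcases Nat.lt_or_ge b 4 with h4 | h4
    · interval_cases b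
      exacts [absurd rfl hb0, R1, R2, R3]
    obtain ⟨hch, hok, -, hcov⟩ := chain_ok
    simp only [List.all_eq_true, List.mem_range, Bool.or_eq_true, decide_eq_true_eq, List.contains_iff_mem,
      Bool.and_eq_true, beq_iff_eq] at hok hcov
    have hv : b >>> 1 < 16 ∧ ¬ b >>> 1 < 2 := by rw [Nat.shiftRight_eq_div_pow]; omega
    obtain ⟨⟨v, k⟩, hk, hkv⟩ := List.mem_map.1 ((hcov _ hv.1).resolve_left hv.2)
    obtain ⟨⟨⟨hkw, -⟩, hk1⟩, hkU⟩ := hok 0 (by norm_num) _ hk
    dsimp only at hkv hkw hk1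
    subst hkv
    obtain ⟨c, hcN, hc, hca⟩ := S.exists_norm_lift hkw fun v hv => (hkU v hv).1
    obtain ⟨q2, c2⟩ := S.el_low (n := 2) (by norm_num)
    obtain ⟨q3, c3⟩ := S.el_low (n := 3) (by norm_num)
    obtain ⟨qb, cb⟩ := S.el_low hb
    have hcode : ∀ r : G, r ∈ Q → cd r = 1 → cd (c * r * c⁻¹) = b >>> 1 := fun r hr e => by
      rw [← h.act_cd hc hr, e, hca 1 (by rw [K8_n]; norm_num)]; exact hk1
    obtain ⟨n2, hn2, e2'⟩ := R2
    obtain ⟨n3, hn3, e3'⟩ := R3
    have k2 := hcode _ q2 (by rw [c2]; rfl)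
    have k3 := hcode _ q3 (by rw [c3]; rfl)
    rcases (h.cd_eq_iff (h.ext.norm c hc _ q2) qb).1 (k2.trans cb.symm) with e4 | e4
    · exact ⟨c * n2, mul_mem hcN hn2, by
        rw [e4, show c * n2 * z * (c * n2)⁻¹ = c * (n2 * z * n2⁻¹) * c⁻¹ by group, e2']⟩
    rcases (h.cd_eq_iff (h.ext.norm c hc _ q3) qb).1 (k3.trans cb.symm) with e5 | e5
    · exact ⟨c * n3, mul_mem hcN hn3, by
        rw [e5, show c * n3 * z * (c * n3)⁻¹ = c * (n3 * z * n3⁻¹) * c⁻¹ by group, e3']⟩
    exfalso
    have := mul_right_cancel (e4.symm.trans e5)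
    exact absurd (S.inj S.fam (by norm_num) (by norm_num) (mul_left_cancel (mul_right_cancel this)))
      (by norm_num : ¬ (2 : ℕ) = 3)
  -- the lines
  have RL : ∀ b < 2048, b ≠ 0 → cls e.1 b = some true → R b := by
    intro b hb hb0 hcl
    by_cases h32 : b < 32
    · exact RE b h32 hb0
    have hcl0 := hcl
    unfold cls at hcl
    rw [if_neg h32] at hcl
    cases hf : lns.find? (fun l => l.1 == b >>> 5) with
    | none => rw [hf] at hcl; simp at hcl
    | some l =>
      have hl := List.mem_of_find?_eq_some hf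
      have hla : l.1 = b >>> 5 := by simpa using List.find?_some hf
      have hlo := lns_ok
      simp only [List.all_eq_true, Bool.and_eq_true, decide_eq_true_eq, List.mem_range, Bool.not_eq_true',
        beq_iff_eq, Bool.or_eq_true, List.contains_iff_mem] at hlo
      obtain ⟨⟨⟨⟨⟨⟨⟨-, hu, hw, -, -⟩, hkw⟩, hkl⟩, hU⟩, -⟩, -⟩, hact⟩ := hlo l hl
      obtain ⟨c, hcN, hc, hca⟩ := S.exists_norm_lift hkw fun v hv => (hU v hv).1.1
      obtain ⟨m, hm, hme⟩ := S.surj S.fam ((Subgroup.mem_normalizer_iff.1 hcN _).1 (S.el_mem b))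
      have hm0 : m ≠ 0 := fun e0 => by
        rw [e0, elN_zero] at hme
        exact hb0 (S.inj S.fam hb (by norm_num) ((conj_eq_one_iff.1 hme.symm).trans elN_zero.symm))
      have hzb := (S.sound hcard hb hb0 hcl0).2 rfl
      have hzm := (S.isConj_el hme.symm).1 hzb
      -- the action of the image
      have hbt : bt (MgN 11 m) = bt (lmap 1 2) := by
        have hb' := hact (b % 32) (Nat.mod_lt _ (by norm_num))
        rw [show 32 * l.1 + b % 32 = b by rw [hla, Nat.shiftRight_eq_div_pow]; omega] at hb'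
        have hkl' := hkl
        simp only [eqvL, Bool.and_eq_true, decide_eq_true_eq, beq_iff_eq] at hkl'
        obtain ⟨⟨⟨l1, l2, -, -⟩, hbt⟩, -⟩ := hkl'
        refine List.map_congr_left fun i hi => ?_
        have h256 : 2 ^ i < 256 :=
          lt_of_lt_of_eq (Nat.pow_lt_pow_right (by norm_num) (List.mem_range.1 hi)) (by norm_num)
        have hlinb : Lin (MgN 11 b) := by
          intro i hi j hj
          rw [← (S.el_act b).2 _ (show i ^^^ j < 2 ^ K8.n from xor_lt hi hj), ← (S.el_act b).2 i hi,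
            ← (S.el_act b).2 j hj, h.act_xor (S.el_act b).1 hi hj]
        have hv := h.act_lt (comm_inv hc) (2 ^ i)
        set v := h.act c⁻¹ (2 ^ i)
        have e0 : h.act c 0 = 0 := by
          have := h.act_xor hc (Nat.two_pow_pos K8.n) (Nat.two_pow_pos K8.n)
          simpa using this
        have hlv : lmap l.2.1 l.2.2.1 v < 256 := lmap_lt hu hw hv
        calc MgN 11 m (2 ^ i) = h.act (c * elN f 11 b * c⁻¹) (2 ^ i) := by
              rw [← (S.el_act m).2 _ h256, hme]
          _ = h.act c (lmap l.2.1 l.2.2.1 v) := by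
              rw [h.act_mul (comm_mul hc (S.el_act b).1) (comm_inv hc) h256, h.act_mul hc (S.el_act b).1 hv,
                (S.el_act b).2 _ hv, lin_ext hlinb (lin_lmap h hu hw) hb' hv]
          _ = lmap (h.act c l.2.1) (h.act c l.2.2.1) (h.act c v) := by
              simp only [lmap]
              rw [h.bq_act hc hv hu, h.bq_act hc hv hw,
                h.act_xor hc (xor_lt hv (by split_ifs <;> first | assumption | norm_num))
                  (by rw [K8_n]; split_ifs <;> first | assumption | norm_num),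
                h.act_xor hc hv (by rw [K8_n]; split_ifs <;> first | assumption | norm_num)]
              cases bq K8 v l.2.1 <;> cases bq K8 v l.2.2.1 <;> simp [e0]
          _ = _ := by
              rw [h.act_inv_right hc h256, hca _ hu, hca _ hw]
              exact lin_ext (lin_lmap h l1 l2) (lin_lmap h (by norm_num) (by norm_num)) hbt h256
      have h5 := first_ok
      simp only [List.all_eq_true, List.mem_range, Bool.or_eq_true, Bool.not_eq_true', beq_eq_false_iff_ne,
        beq_iff_eq] at h5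
      have hm5 := (h5 m hm).resolve_left fun e' => e' hbt
      have hr := reach_ok
      simp only [List.all_eq_true, List.mem_range, Bool.or_eq_true, List.any_eq_true, Bool.and_eq_true,
        decide_eq_true_eq, beq_iff_eq, bne_iff_ne] at hr
      have hmm : 32 + m % 32 = m := by rw [Nat.shiftRight_eq_div_pow] at hm5; omega
      rcases hr e he (m % 32) (Nat.mod_lt _ (by norm_num)) with e' | ⟨w, hw', h1, h2⟩
      · rw [hmm] at e'
        exact absurd ((S.sound hcard hm hm0 e').1 hzm) (by simp)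
      · rw [hmm] at h1 h2
        obtain ⟨n, hn, hne⟩ := S.exists_opw (swords_lt w hw')
        exact hback hcN hme.symm (hback hn (hne m) (RE _ h1 h2))
  obtain ⟨w, hw, hc⟩ := good_ok he ha h0
  rw [(S.conj_iff he hcard ha h0).1 hz] at hc
  obtain ⟨n, hn, hne⟩ := S.exists_opw (swords_lt w hw)
  exact hback hn (hne a) (RL _ (wmap_lt (swords_lt w hw) ha) (S.wmap_ne (swords_lt w hw) ha h0) hc)

end Setup

end Cfsg.Agent.Invol.Co1.Local
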